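import Mathlib
import Cfsg.Agent.Spor.MB.Lists

/-!
# Sextets and trios; transitivity of `M24` on octads, dodecads, sextets and trios
-/

namespace Cfsg.Agent.Spor.MB

open Cfsg MulAction
open scoped Pointwise

theorem ncard_mul_eq {α β : Type*} {s : Set α} {t : Set β} (hs : s.Finite) (ht : t.Finite)
    (r : α → β → Prop) {m n : ℕ} (hm : ∀ a ∈ s, {b | b ∈ t ∧ r a b}.ncard = m)
    (hn : ∀ b ∈ t, {a | a ∈ s ∧ r a b}.ncard = n) : s.ncard * m = t.ncard * n := by
  classical
  rw [Set.ncard_eq_toFinset_card s hs, Set.ncard_eq_toFinset_card t ht]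
  apply Finset.card_mul_eq_card_mul r
  · intro a ha
    rw [← hm a (by simpa using ha), ← Set.ncard_coe_finset]
    congr 1; ext b; simp
  · intro b hb
    rw [← hn b (by simpa using hb), ← Set.ncard_coe_finset]
    congr 1; ext b; simp

theorem eq_of_eq_mul {n a x b : ℕ} (h : n = a * x) (hb : n = a * b) (ha : 0 < a) : x = b :=
  Nat.eq_of_mul_eq_mul_left ha (h.symm.trans hb)

/-- Transport of counts along an element of `M24`. -/
theorem ncard_smul_eq {Y : Type} [MulAction PG Y] (g : PG) {A B : Set Y}
    (h : ∀ y, g • y ∈ B ↔ y ∈ A) : B.ncard = A.ncard := by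
  have : B = g • A := by
    ext y
    rw [Set.mem_smul_set_iff_inv_smul_mem, ← h, smul_inv_smul]
  rw [this, Set.ncard_smul_set]

theorem card_fam {l : List ℕ} (hl : l.Nodup) (hlt : ∀ m ∈ l, m < 2 ^ 24) :
    (fam l).card = l.length := by
  rw [fam, List.toFinset_card_of_nodup, List.length_map]
  exact hl.map_on fun a ha b hb e => (unmask_inj (hlt a ha) (hlt b hb)).1 e

/-- Generators of `M24`: the codes of `t ↦ t + 1`, `t ↦ -1/t` and the cube twist. -/
def gM24 : List ℕ := [956302485175575353788796878166559809, 1795248432537898728475572672376535, 974380510768821363662145534143076928]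

theorem gens_gM24 : Gens M24 gM24 := gens_M24 (by decide +kernel)

/-- The standard octad `{∞, 0, 1, 2, 3, 5, 14, 17}`. -/
abbrev O0 : Finset GolayPt := unmask 8536111

/-- The standard dodecad (squares modulo 23). -/
abbrev D0 : Finset GolayPt := unmask 340831

theorem O0_mem : O0 ∈ octads := unmask_mem_octads (by decide +kernel) (by decide +kernel)

theorem D0_mem : D0 ∈ dodecads := unmask_mem_dodecads (by decide +kernel) (by decide +kernel)

theorem exists_smul_O0 {o : Finset GolayPt} (ho : o ∈ octads) : ∃ g ∈ M24, g • O0 = o := by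
  obtain ⟨s, hs, h5⟩ := Finset.exists_subset_card_eq (s := o) (n := 5) (by rw [ho.2]; norm_num)
  obtain ⟨g, hg, e⟩ := exists_smul_small le_rfl h5
  refine ⟨g, hg, octad_unique ((smul_mem_octads_iff hg).2 O0_mem) ho ?_⟩
  rw [← h5]
  refine Finset.card_le_card (Finset.subset_inter ?_ hs)
  rw [← e]
  exact Finset.smul_finset_subset_smul_finset (by decide +kernel)

theorem exists_smul_D0 {d : Finset GolayPt} (hd : d ∈ dodecads) : ∃ g ∈ M24, g • D0 = d :=
  setM.trans le_rfl gens_gM24 (setM_R (by norm_num)) 2576 2932 0x111111111111111111111130000000000000000000000000000000000000000000000000000000000000000000000000000000000000000000000000000000000000000000000000000000000000000000000000000000000111111111111111111111130000001111111111111111111111200000000000000011111111111111111111113000000111111111111111111111130000000000000000000000000000000000000000000000000000000000000000000000000111111111111111111111120000000000000000000000000111111111111111111111130000011111111111111111111112000111111111111111111111120000000000111111111111111111111130001111111111111111111111311111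11111111111111111311111111111111111111112001111111111111111111111200111111111111111111111120000000111111111111111111111130011111111111111111111113000011111111111111111111112000111111111111111111111120111111111111111111111131111111111111111111111301111111111111111111111211111111111111111111113111111111111111111111120111111111111111111111131111111111111111111111311111111111111111111113011111111111111111111113111111111111111111111131111111111111111111111300011111111111111111111112011111111111111111111112011111111111111111111112011111111111111111111113111111111111111111111120111111111111111111111120111111111111111111111121111111111111111111111211111111111111111111113000001111111111111111111111200001111111111111111111111211111111111111111111113111111111111111111111130111111111111111111111120111111111111111111111120111111111111111111111120011111111111111111111112011111111111111111111112111111111111111111111121111111111111111111111311111111111111111111113011111111111111111111113111111111111111111111120111111111111111111111121111111111111111111111211111111111111111111113111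11111111111111111112001111111111111111111111211111111111111111111112111111111111111111111131111111111111111111111211111111111111111111113111111111111111111111120111111111111111111111121111111111111111111111211111111111111111111113011111111111111111111112111111111111111111111121111111111111111111111301111111111111111111111211111111111111111111113111111111111111111111131111111111111111111111211111111111111111111113111111111111111111111120111111111111111111111121111111111111111111111211111111111111111111113111111111111111111111121111111111111111111111211111111111111111111113111111111111111111111120111111111111111111111121111111111111111111111211111111111111111111113111111111111111111111121111111111111111111111211111111111111111111113111111111111111111111121111111111111111111111211111111111111111111113111111111111111111111121111111111111111111111211111111111111111111113111111111111111111111131111111111111111111111211111111111111111111112111111111111111111111131111111111111111111111311111111111111111111112111111111111111111111121111111111111111111111311111111111111111111112111111111111111111111121111111111111111111111311111111111111111111112111111111111111111111121111111111111111111111311111111111111111111112011111111111111111111112111111111111111111111121111111111111111111111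
    (by decide +kernel) (Set.toFinite _) (fun _ hg => (smul_mem_dodecads_iff hg).2 D0_mem)
    ncard_dodecads.le d hd

theorem card_inf_stabilizer {X : Type} [MulAction PG X] {H : Subgroup PG} {x : X} {T : Set X}
    (hsub : ∀ g ∈ H, g • x ∈ T) (htr : ∀ y ∈ T, ∃ g ∈ H, g • x = y) :
    Nat.card H = T.ncard * Nat.card ↥(H ⊓ stabilizer PG x) := by
  rw [card_eq_ncard_orbit_mul H x]
  congr 2
  ext y
  constructor
  · rintro ⟨g, rfl⟩; exact hsub g g.2
  · intro hy
    obtain ⟨g, hg, rfl⟩ := htr y hy
    exact ⟨⟨g, hg⟩, rfl⟩

theorem exists_smul_of_base {X : Type} [MulAction PG X] {H : Subgroup PG} {x : X} {T : Set X}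
    (htr : ∀ y ∈ T, ∃ g ∈ H, g • x = y) {y z : X} (hy : y ∈ T) (hz : z ∈ T) :
    ∃ g ∈ H, g • y = z := by
  obtain ⟨a, ha, rfl⟩ := htr y hy
  obtain ⟨b, hb, rfl⟩ := htr z hz
  exact ⟨b * a⁻¹, H.mul_mem hb (H.inv_mem ha), by simp [mul_smul]⟩

theorem card_stab_octad {o : Finset GolayPt} (ho : o ∈ octads) :
    Nat.card ↥(M24 ⊓ stabilizer PG o) = 322560 := by
  have := card_inf_stabilizer (H := M24) (x := o) (T := octads)
    (fun g hg => (smul_mem_octads_iff hg).2 ho)
    (fun y hy => exists_smul_of_base (fun _ => exists_smul_O0) ho hy)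
  rw [card_M24, ncard_octads] at this
  exact eq_of_eq_mul this (by norm_num) (by norm_num)

theorem card_stab_dodecad {d : Finset GolayPt} (hd : d ∈ dodecads) :
    Nat.card ↥(M24 ⊓ stabilizer PG d) = 95040 := by
  have := card_inf_stabilizer (H := M24) (x := d) (T := dodecads)
    (fun g hg => (smul_mem_dodecads_iff hg).2 hd)
    (fun y hy => exists_smul_of_base (fun _ => exists_smul_D0) hd hy)
  rw [card_M24, ncard_dodecads] at this
  exact eq_of_eq_mul this (by norm_num) (by norm_num)

theorem ncard_card_eq (k : ℕ) : {s : Finset GolayPt | s.card = k}.ncard = Nat.choose 24 k := by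
  have : {s : Finset GolayPt | s.card = k} = ↑(Finset.powersetCard k (Finset.univ : Finset GolayPt)) := by
    ext s; simp
  rw [this, Set.ncard_coe_finset, Finset.card_powersetCard, Finset.card_univ, card_golayPt]

theorem card_stab_small {s : Finset GolayPt} {k : ℕ} (hk : k ≤ 5) (hs : s.card = k) :
    Nat.choose 24 k * Nat.card ↥(M24 ⊓ stabilizer PG s) = 244823040 := by
  have := card_inf_stabilizer (H := M24) (x := s) (T := {s : Finset GolayPt | s.card = k})
    (fun g _ => by simpa using hs)
    (fun y hy => exists_smul_of_base (T := {s : Finset GolayPt | s.card = k})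
      (fun _ => exists_smul_small hk) hs hy)
  rw [card_M24, ncard_card_eq] at this
  exact this.symm

/-! ### Sextets -/

open Classical in
/-- The sextet containing a tetrad. -/
noncomputable def sextetOf (t : Finset GolayPt) : Finset (Finset GolayPt) :=
  Finset.univ.filter fun u => u.card = 4 ∧ symmDiff t u ∈ CW

theorem mem_sextetOf {t u : Finset GolayPt} :
    u ∈ sextetOf t ↔ u.card = 4 ∧ symmDiff t u ∈ CW := by
  simp [sextetOf]

theorem disjoint_of_symmDiff_mem {t u : Finset GolayPt} (ht : t.card = 4) (hu : u.card = 4)
    (hne : t ≠ u) (h : symmDiff t u ∈ CW) : Disjoint t u := by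
  have h1 := card_symmDiff_add t u
  have h2 := card_cases h
  have h3 : (symmDiff t u).card ≠ 0 := by
    rw [Ne, Finset.card_eq_zero, ← Finset.bot_eq_empty, symmDiff_eq_bot]; exact hne
  rw [Finset.disjoint_iff_inter_eq_empty, ← Finset.card_eq_zero]
  omega

theorem union_mem_octads_iff {t u : Finset GolayPt} (ht : t.card = 4) (hu : u.card = 4)
    (hne : t ≠ u) : t ∪ u ∈ octads ↔ symmDiff t u ∈ CW := by
  constructor
  · intro h
    have hd : Disjoint t u := by
      rw [← Finset.card_union_eq_card_add_card, h.2, ht, hu]
    rw [hd.symmDiff_eq_sup]; exact h.1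
  · intro h
    have hd := disjoint_of_symmDiff_mem ht hu hne h
    refine ⟨?_, by rw [Finset.card_union_of_disjoint hd, ht, hu]⟩
    rw [hd.symmDiff_eq_sup] at h; exact h

theorem card_sextetOf {t : Finset GolayPt} (ht : t.card = 4) : (sextetOf t).card = 6 := by
  rcases Golay.isGolay.coset (BinCode.ind t) with ⟨u, hu, h⟩ | h
  · rw [← BinCode.ind_symmDiff, ← mem_CW_iff_ind] at h
    have h1 := card_symmDiff_add t u
    have h2 := card_cases h
    have h3 : (symmDiff t u).card ≠ 0 := by
      rw [Ne, Finset.card_eq_zero, ← Finset.bot_eq_empty, symmDiff_eq_bot]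
      rintro rfl; omega
    omega
  · rw [← h, ← Set.ncard_coe_finset]
    congr 1
    ext u
    rw [Finset.mem_coe, mem_sextetOf, mem_CW_iff_ind, BinCode.ind_symmDiff]; rfl

theorem self_mem_sextetOf {t : Finset GolayPt} (ht : t.card = 4) : t ∈ sextetOf t :=
  mem_sextetOf.2 ⟨ht, by rw [symmDiff_self]; exact empty_mem_CW⟩

theorem sextetOf_mem {t : Finset GolayPt} (ht : t.card = 4) : sextetOf t ∈ sextets := by
  refine ⟨card_sextetOf ht, fun u hu => (mem_sextetOf.1 hu).1, fun u hu v hv hne => ?_⟩
  rw [mem_sextetOf] at hu hv
  rw [union_mem_octads_iff hu.1 hv.1 hne]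
  have := symmDiff_mem_CW hu.2 hv.2
  rwa [symmDiff_symmDiff_symmDiff_comm, symmDiff_self, bot_symmDiff] at this

theorem symmDiff_mem_of_sextet {S : Finset (Finset GolayPt)} (hS : S ∈ sextets)
    {t u : Finset GolayPt} (ht : t ∈ S) (hu : u ∈ S) : symmDiff t u ∈ CW := by
  by_cases h : t = u
  · rw [h, symmDiff_self]; exact empty_mem_CW
  · exact (union_mem_octads_iff (hS.2.1 t ht) (hS.2.1 u hu) h).1 (hS.2.2 t ht u hu h)

theorem eq_sextetOf {S : Finset (Finset GolayPt)} (hS : S ∈ sextets) {t : Finset GolayPt}
    (ht : t ∈ S) : S = sextetOf t := by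
  apply Finset.eq_of_subset_of_card_le
  · intro u hu
    exact mem_sextetOf.2 ⟨hS.2.1 u hu, symmDiff_mem_of_sextet hS ht hu⟩
  · rw [card_sextetOf (hS.2.1 t ht), hS.1]

theorem sextet_eq_of_mem {S S' : Finset (Finset GolayPt)} (hS : S ∈ sextets) (hS' : S' ∈ sextets)
    {t : Finset GolayPt} (ht : t ∈ S) (ht' : t ∈ S') : S = S' := by
  rw [eq_sextetOf hS ht, ← eq_sextetOf hS' ht']

theorem sextet_disjoint {S : Finset (Finset GolayPt)} (hS : S ∈ sextets)
    {t u : Finset GolayPt} (ht : t ∈ S) (hu : u ∈ S) (hne : t ≠ u) : Disjoint t u :=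
  disjoint_of_symmDiff_mem (hS.2.1 t ht) (hS.2.1 u hu) hne (symmDiff_mem_of_sextet hS ht hu)

theorem exists_mem_sextet {S : Finset (Finset GolayPt)} (hS : S ∈ sextets) : ∃ t, t ∈ S :=
  Finset.card_pos.1 (by rw [hS.1]; norm_num)

theorem smul_mem_sextets {g : PG} (hg : g ∈ M24) {S : Finset (Finset GolayPt)}
    (hS : S ∈ sextets) : g • S ∈ sextets := by
  refine ⟨by rw [Finset.card_smul_finset, hS.1], ?_, ?_⟩
  · intro t ht
    obtain ⟨u, hu, rfl⟩ := Finset.mem_smul_finset.1 ht
    rw [Finset.card_smul_finset, hS.2.1 u hu]
  · intro t ht u hu hne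
    obtain ⟨t', ht', rfl⟩ := Finset.mem_smul_finset.1 ht
    obtain ⟨u', hu', rfl⟩ := Finset.mem_smul_finset.1 hu
    rw [← Finset.smul_finset_union, smul_mem_octads_iff hg]
    exact hS.2.2 t' ht' u' hu' fun e => hne (by rw [e])

theorem smul_mem_sextets_iff {g : PG} (hg : g ∈ M24) {S : Finset (Finset GolayPt)} :
    g • S ∈ sextets ↔ S ∈ sextets :=
  ⟨fun h => by simpa using smul_mem_sextets (M24.inv_mem hg) h, smul_mem_sextets hg⟩

theorem ncard_sextets : sextets.ncard = 1771 := by
  have := ncard_mul_eq (s := {t : Finset GolayPt | t.card = 4}) (t := sextets) (Set.toFinite _)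
    (Set.toFinite _) (fun t S => t ∈ S) (m := 1) (n := 6) ?_ ?_
  · rw [ncard_card_eq] at this
    have h : Nat.choose 24 4 = 10626 := by decide +kernel
    omega
  · intro t ht
    rw [Set.ncard_eq_one]
    refine ⟨sextetOf t, ?_⟩
    ext S
    exact ⟨fun h => eq_sextetOf h.1 h.2, fun h => by
      rw [Set.mem_singleton_iff.1 h]; exact ⟨sextetOf_mem ht, self_mem_sextetOf ht⟩⟩
  · intro S hS
    rw [← hS.1, ← Set.ncard_coe_finset]
    congr 1
    ext t
    exact ⟨fun h => h.2, fun h => ⟨hS.2.1 t h, h⟩⟩

/-- Test that a list of masks is a sextet. -/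
noncomputable def chkSex (l : List ℕ) : Bool :=
  Bool.and (distinct (fun x => x) 6 l) (allL (fun a => Bool.and (Nat.blt a 16777216)
    (Bool.and (Nat.beq (pc a) 4) (allL (fun b => isCode (Nat.xor a b)) l))) l)

theorem fam_mem_sextets {l : List ℕ} (h : chkSex l = true) : fam l ∈ sextets := by
  simp only [chkSex, Bool.and_eq_true, allL_iff, Nat.blt_eq, Nat.beq_eq] at h
  obtain ⟨h1, h2⟩ := h
  have h3 := distinct_spec h1
  have hc : ∀ t ∈ fam l, t.card = 4 := by
    intro t ht
    obtain ⟨m, hm, rfl⟩ := mem_fam.1 ht
    rw [card_unmask, (h2 m hm).2.1]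
  refine ⟨by rw [card_fam (by simpa using h3.1) fun m hm => (h2 m hm).1, h3.2], hc, ?_⟩
  intro t ht u hu hne
  rw [union_mem_octads_iff (hc t ht) (hc u hu) hne]
  obtain ⟨a, ha, rfl⟩ := mem_fam.1 ht
  obtain ⟨b, hb, rfl⟩ := mem_fam.1 hu
  rw [← unmask_xor]
  exact unmask_mem_CW ((h2 a ha).2.2 b hb)

/-- The masks of the tetrads of the standard sextet. -/
def S0L : List ℕ := [8388615, 4268048, 147496, 2621632, 1082880, 268544]

/-- The standard sextet. -/
abbrev S0 : Finset (Finset GolayPt) := fam S0L

theorem S0_mem : S0 ∈ sextets := fam_mem_sextets (by decide +kernel)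

theorem exists_smul_S0 {S : Finset (Finset GolayPt)} (hS : S ∈ sextets) :
    ∃ g ∈ M24, g • S0 = S := by
  obtain ⟨t, ht⟩ := exists_mem_sextet hS
  obtain ⟨g, hg, e⟩ := exists_smul_small (k := 4) (by norm_num) (hS.2.1 t ht)
  refine ⟨g, hg, sextet_eq_of_mem (smul_mem_sextets hg S0_mem) hS ?_ ht⟩
  rw [← e]
  exact Finset.smul_mem_smul_finset (mem_fam.2 ⟨_, by decide, rfl⟩)

theorem card_stab_sextet {S : Finset (Finset GolayPt)} (hS : S ∈ sextets) :
    Nat.card ↥(M24 ⊓ stabilizer PG S) = 138240 := by
  have := card_inf_stabilizer (H := M24) (x := S) (T := sextets)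
    (fun g hg => smul_mem_sextets hg hS)
    (fun y hy => exists_smul_of_base (fun _ => exists_smul_S0) hS hy)
  rw [card_M24, ncard_sextets] at this
  exact eq_of_eq_mul this (by norm_num) (by norm_num)

/-- Sextets, coded by any of their tetrads; the key is the syndrome. -/
def sexM : Mdl (Finset (Finset GolayPt)) where
  a := act
  k := syn
  R := fun m S => S ∈ sextets ∧ ∃ t ∈ S, m = mask t
  a_spec := by
    rintro g hg _ S ⟨hS, t, ht, rfl⟩
    exact ⟨smul_mem_sextets hg hS, g • t, Finset.smul_mem_smul_finset ht, (mask_smul g t).symm⟩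
  k_spec := by
    rintro _ _ S ⟨hS, t, ht, rfl⟩ ⟨-, u, hu, rfl⟩
    exact symmDiff_mem_CW_iff.1 (symmDiff_mem_of_sextet hS ht hu)

theorem sexM_R {m : ℕ} {l : List ℕ} (h : chkSex (m :: l) = true) : sexM.R m (fam (m :: l)) := by
  refine ⟨fam_mem_sextets h, unmask m, mem_fam.2 ⟨m, by simp, rfl⟩, (mask_unmask ?_).symm⟩
  simp only [chkSex, Bool.and_eq_true, allL_iff, Nat.blt_eq, Nat.beq_eq] at h
  exact (h.2 m (by simp)).1

end Cfsg.Agent.Spor.MB
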