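import Mathlib
import Cfsg.Agent.Spor.MB.Enum

/-!
# Elements of prime order in `M24`
-/

namespace Cfsg.Agent.Spor.MB

open Cfsg MulAction
open scoped Pointwise

/-- The fixed points of a permutation. -/
abbrev fixSet (g : PG) : Finset GolayPt := Finset.univ.filter fun p => g p = p

theorem mem_fixSet {g : PG} {p : GolayPt} : p ∈ fixSet g ↔ g p = p := by simp

theorem fixSet_conj (k g : PG) : fixSet (k * g * k⁻¹) = k • fixSet g := by
  ext p
  rw [← Finset.inv_smul_mem_iff, mem_fixSet, mem_fixSet]
  simp only [Equiv.Perm.mul_apply, Equiv.Perm.smul_def]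
  exact ⟨fun h => k.injective (by simpa using h), fun h => by rw [h]; simp⟩

theorem card_fixSet_conj (k g : PG) : (fixSet (k * g * k⁻¹)).card = (fixSet g).card := by
  rw [fixSet_conj, Finset.card_smul_finset]

/-- Test: the fixed points of `c` are the points of `m`. -/
noncomputable def fixIs (c m : ℕ) : Bool :=
  allN (fun i => (Nat.beq (ap c i) i) == (Nat.testBit m i)) 24

theorem fixSet_eq {g : PG} {m : ℕ} (h : fixIs (code g) m = true) : fixSet g = unmask m := by
  ext p
  have := allN_iff.1 h (ix p) (ix_lt p)
  rw [beq_iff_eq, ap_code_ix] at this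
  rw [mem_fixSet, mem_unmask, ← this, Nat.beq_eq, ix_injective.eq_iff]

theorem fixSet_eq_empty_iff {g : PG} : fixSet g = ∅ ↔ ∀ p, g p ≠ p := by
  simp [Finset.filter_eq_empty_iff]

theorem orderOf_of_code {g : PG} {p : ℕ} [Fact p.Prime] (h1 : pw (code g) p = idc)
    (h2 : code g ≠ idc) : orderOf g = p :=
  orderOf_eq_prime (by rw [eq_one_iff_code, code_pow, h1]) (by rwa [Ne, eq_one_iff_code])

theorem factorization_M24 (p k : ℕ) (h : Nat.factorization 244823040 p = k) :
    (Nat.card M24).factorization p = k := by rw [card_M24, h]

theorem factorization_eq_of {n p k : ℕ} (hp : p.Prime) (h1 : p ^ k ∣ n) (h2 : ¬ p ^ (k + 1) ∣ n) :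
    n.factorization p = k := by
  have hn : n ≠ 0 := by rintro rfl; exact h2 (dvd_zero _)
  have a := (hp.pow_dvd_iff_le_factorization hn).1 h1
  have b := (hp.pow_dvd_iff_le_factorization hn).not.1 h2
  omega

/-- Test used for class lists: `x ^ p ≠ 1`, or `x = 1`, or `x` is in one of two lists. -/
noncomputable def clsTest (p : ℕ) (A B : List ℕ) (x : ℕ) : Bool :=
  Bool.or (Bool.not (Nat.beq (pw x p) idc)) (Bool.or (Nat.beq x idc) (Bool.or (memL A x) (memL B x)))

/-- Classification of the elements of order `p` of `H` into (at most) two classes. -/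
theorem two_classes {H : Subgroup PG} {gs : List ℕ} (hgs : Gens H gs) {p : ℕ} [Fact p.Prime]
    {k fuel cert : ℕ} (h : listGrp gs (p ^ k) fuel cert = true)
    (hk : (Nat.card H).factorization p = k) {a b : PG} {ka kb : List ℕ} (hka : Gens H ka)
    (hkb : Gens H kb) (hq : allL (clsTest p (conjL (code a) ka) (conjL (code b) kb))
      (walk mul gs idc fuel cert) = true) {g : PG} (hg : g ∈ H) (hp : orderOf g = p) :
    (∃ k ∈ H, k * a * k⁻¹ = g) ∨ ∃ k ∈ H, k * b * k⁻¹ = g := by
  have hp1 : g ^ p ^ 1 = 1 := by rw [pow_one, ← hp, pow_orderOf_eq_one]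
  obtain ⟨x, hx, hq⟩ := exists_conj_of_sylow hgs h hk hq hg hp1
  have h1 : pw (code (x * g * x⁻¹)) p = idc := by
    rw [← code_pow, conj_pow, ← pow_one p, hp1, ← code_one]; simp
  have h2 : code (x * g * x⁻¹) ≠ idc := by
    rw [Ne, ← eq_one_iff_code, conj_eq_one_iff]
    rintro rfl
    rw [orderOf_one] at hp
    exact (Fact.out : p.Prime).one_lt.ne hp
  simp only [clsTest, h1, Nat.beq_refl, Bool.not_true, Bool.false_or, Bool.or_eq_true, Nat.beq_eq,
    h2, false_or, memL_iff] at hq
  rcases hq with hq | hq
  · obtain ⟨y, hy, e⟩ := exists_of_mem_conjL hka hq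
    exact Or.inl ⟨x⁻¹ * y, H.mul_mem (H.inv_mem hx) hy, by
      rw [mul_inv_rev, inv_inv, mul_assoc x⁻¹, mul_assoc x⁻¹, ← mul_assoc (y * a), e]; group⟩
  · obtain ⟨y, hy, e⟩ := exists_of_mem_conjL hkb hq
    exact Or.inr ⟨x⁻¹ * y, H.mul_mem (H.inv_mem hx) hy, by
      rw [mul_inv_rev, inv_inv, mul_assoc x⁻¹, mul_assoc x⁻¹, ← mul_assoc (y * b), e]; group⟩

/-- An involution fixing the standard octad pointwise. -/
noncomputable def zA : PG := toPerm 972512676110088067912772961567868960

theorem code_zA : code zA = 972512676110088067912772961567868960 := code_toPerm (by decide +kernel)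

theorem zA_mem : zA ∈ M24 := toPerm_mem (by decide +kernel)

theorem orderOf_zA : orderOf zA = 2 :=
  haveI : Fact (Nat.Prime 2) := ⟨by norm_num⟩
  orderOf_of_code (by rw [code_zA]; decide +kernel) (by rw [code_zA]; decide +kernel)

theorem fixSet_zA : fixSet zA = unmask 8536111 :=
  fixSet_eq (by rw [code_zA]; decide +kernel)

theorem card_fixSet_zA : (fixSet zA).card = 8 := by
  rw [fixSet_zA]; decide +kernel

/-- A fixed-point-free involution. -/
noncomputable def zB : PG := toPerm 89053301974695481301600181090966529

theorem code_zB : code zB = 89053301974695481301600181090966529 := code_toPerm (by decide +kernel)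

theorem zB_mem : zB ∈ M24 := toPerm_mem (by decide +kernel)

theorem orderOf_zB : orderOf zB = 2 :=
  haveI : Fact (Nat.Prime 2) := ⟨by norm_num⟩
  orderOf_of_code (by rw [code_zB]; decide +kernel) (by rw [code_zB]; decide +kernel)

theorem fixSet_zB : fixSet zB = unmask 0 :=
  fixSet_eq (by rw [code_zB]; decide +kernel)

theorem card_fixSet_zB : (fixSet zB).card = 0 := by
  rw [fixSet_zB]; decide +kernel

/-- An element of order three with six fixed points. -/
noncomputable def tA : PG := toPerm 960871044210657595388801541596546050

theorem code_tA : code tA = 960871044210657595388801541596546050 := code_toPerm (by decide +kernel)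

theorem tA_mem : tA ∈ M24 := toPerm_mem (by decide +kernel)

theorem orderOf_tA : orderOf tA = 3 :=
  haveI : Fact (Nat.Prime 3) := ⟨by norm_num⟩
  orderOf_of_code (by rw [code_tA]; decide +kernel) (by rw [code_tA]; decide +kernel)

theorem fixSet_tA : fixSet tA = unmask 8940544 :=
  fixSet_eq (by rw [code_tA]; decide +kernel)

theorem card_fixSet_tA : (fixSet tA).card = 6 := by
  rw [fixSet_tA]; decide +kernel

/-- A fixed-point-free element of order three. -/
noncomputable def tB : PG := toPerm 562804354486001025861237512351027734

theorem code_tB : code tB = 562804354486001025861237512351027734 := code_toPerm (by decide +kernel)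

theorem tB_mem : tB ∈ M24 := toPerm_mem (by decide +kernel)

theorem orderOf_tB : orderOf tB = 3 :=
  haveI : Fact (Nat.Prime 3) := ⟨by norm_num⟩
  orderOf_of_code (by rw [code_tB]; decide +kernel) (by rw [code_tB]; decide +kernel)

theorem fixSet_tB : fixSet tB = unmask 0 :=
  fixSet_eq (by rw [code_tB]; decide +kernel)

theorem card_fixSet_tB : (fixSet tB).card = 0 := by
  rw [fixSet_tB]; decide +kernel

/-- An element of order five. -/
noncomputable def x5 : PG := toPerm 975526482844923635508667718993905696

theorem code_x5 : code x5 = 975526482844923635508667718993905696 := code_toPerm (by decide +kernel)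

theorem x5_mem : x5 ∈ M24 := toPerm_mem (by decide +kernel)

theorem orderOf_x5 : orderOf x5 = 5 :=
  haveI : Fact (Nat.Prime 5) := ⟨by norm_num⟩
  orderOf_of_code (by rw [code_x5]; decide +kernel) (by rw [code_x5]; decide +kernel)

theorem fixSet_x5 : fixSet x5 = unmask 8388615 :=
  fixSet_eq (by rw [code_x5]; decide +kernel)

theorem card_fixSet_x5 : (fixSet x5).card = 4 := by
  rw [fixSet_x5]; decide +kernel

/-- An element of order seven. -/
noncomputable def x7 : PG := toPerm 982007568098642619616056023997229088

theorem code_x7 : code x7 = 982007568098642619616056023997229088 := code_toPerm (by decide +kernel)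

theorem x7_mem : x7 ∈ M24 := toPerm_mem (by decide +kernel)

theorem orderOf_x7 : orderOf x7 = 7 :=
  haveI : Fact (Nat.Prime 7) := ⟨by norm_num⟩
  orderOf_of_code (by rw [code_x7]; decide +kernel) (by rw [code_x7]; decide +kernel)

theorem fixSet_x7 : fixSet x7 = unmask 8388611 :=
  fixSet_eq (by rw [code_x7]; decide +kernel)

theorem card_fixSet_x7 : (fixSet x7).card = 3 := by
  rw [fixSet_x7]; decide +kernel

/-- An element of order eleven (multiplication by two). -/
noncomputable def x11 : PG := toPerm 983435072843990828779021698901151808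

theorem code_x11 : code x11 = 983435072843990828779021698901151808 := code_toPerm (by decide +kernel)

theorem x11_mem : x11 ∈ M24 := toPerm_mem (by decide +kernel)

theorem orderOf_x11 : orderOf x11 = 11 :=
  haveI : Fact (Nat.Prime 11) := ⟨by norm_num⟩
  orderOf_of_code (by rw [code_x11]; decide +kernel) (by rw [code_x11]; decide +kernel)

theorem fixSet_x11 : fixSet x11 = unmask 8388609 :=
  fixSet_eq (by rw [code_x11]; decide +kernel)

theorem card_fixSet_x11 : (fixSet x11).card = 2 := by
  rw [fixSet_x11]; decide +kernel

/-- An element of order twenty-three (translation by one). -/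
noncomputable def x23 : PG := toPerm 956302485175575353788796878166559809

theorem code_x23 : code x23 = 956302485175575353788796878166559809 := code_toPerm (by decide +kernel)

theorem x23_mem : x23 ∈ M24 := toPerm_mem (by decide +kernel)

theorem orderOf_x23 : orderOf x23 = 23 :=
  haveI : Fact (Nat.Prime 23) := ⟨by norm_num⟩
  orderOf_of_code (by rw [code_x23]; decide +kernel) (by rw [code_x23]; decide +kernel)

theorem fixSet_x23 : fixSet x23 = unmask 8388608 :=
  fixSet_eq (by rw [code_x23]; decide +kernel)

theorem card_fixSet_x23 : (fixSet x23).card = 1 := by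
  rw [fixSet_x23]; decide +kernel

/-- Generators of a Sylow 2-subgroup of `M24` (fixing `O0`, `T0`, `S0`, centralising `zA`). -/
def gP2 : List ℕ := [102889582117784464505467741457734657, 110876496324751904654406257246067744, 718298058403826401204354060693551267, 134606928290580435141836143354484270]

theorem gens_gP2 : Gens M24 gP2 := gens_M24 (by decide +kernel)

/-- The elements of the Sylow 2-subgroup. -/
noncomputable def P2L : List ℕ := walk mul gP2 idc 1347 0x111400000000000000000000000000000000000000000000000000000000000000000000000000000000000000000000000000000000000000000000000000000000000000000000000001112111400000001114000000000000000000011121114011120011120111300111211121112111400001112111200111400000000000000000000011130111201114000000000000000000000000000000011121112111300000000000000000111211121112111311121112111201113111311121112111211141112001112111300011121112111200111411121112111211131112111211121114011121113000000000000000000000111211131112111201114011121112111200111400000000000000011120111311121112111301112111211120111311130111211131112111211121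113011121112111211131112111211121114111211131113011121113111211141112111211121113111211121112111411121113000111200011141112111211121113111211121112111411121113011120011121112111211131112111211121114111411121112111211131112111211121114011121112111211141112111311121112111211130111211121112111311130111211131112111211121113011121112111211131112111211121114111411121112111211131112111211121114111211131112111211121113011121112111211141112111211121113111211121112111411121112111211130111211121112111311121112111211141112111211121113111211121112111411121112111211131112111211121114111211121112111311121112111211141112111211121113111211121112111411121112111211131112111211121114111211121112111311121112111211141112111211121113111211121112111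

theorem listGrp_gP2 : listGrp gP2 (2 ^ 10) 1347 0x111400000000000000000000000000000000000000000000000000000000000000000000000000000000000000000000000000000000000000000000000000000000000000000000000001112111400000001114000000000000000000011121114011120011120111300111211121112111400001112111200111400000000000000000000011130111201114000000000000000000000000000000011121112111300000000000000000111211121112111311121112111201113111311121112111211141112001112111300011121112111200111411121112111211131112111211121114011121113000000000000000000000111211131112111201114011121112111200111400000000000000011120111311121112111301112111211120111311130111211131112111211121113011121112111211131112111211121114111211131113011121113111211141112111211121113111211121112111411121113000111200011141112111211121113111211121112111411121113011120011121112111211131112111211121114111411121112111211131112111211121114011121112111211141112111311121112111211130111211121112111311130111211131112111211121113011121112111211131112111211121114111411121112111211131112111211121114111211131112111211121113011121112111211141112111211121113111211121112111411121112111211130111211121112111311121112111211141112111211121113111211121112111411121112111211131112111211121114111211121112111311121112111211141112111211121113111211121112111411121112111211131112111211121114111211121112111311121112111211141112111211121113111211121112111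 = true := by
  decide +kernel

theorem card_P2 : Nat.card (clo gP2) = 2 ^ 10 := card_clo_of_listGrp gens_gP2 listGrp_gP2

theorem mem_P2L : ∀ g ∈ clo gP2, code g ∈ P2L := mem_walk_of_listGrp listGrp_gP2

theorem involution_classes {g : PG} (hg : g ∈ M24) (h : orderOf g = 2) :
    (∃ k ∈ M24, k * zA * k⁻¹ = g) ∨ ∃ k ∈ M24, k * zB * k⁻¹ = g :=
  two_classes gens_gP2 listGrp_gP2
    (factorization_M24 _ _ (factorization_eq_of (by norm_num) (by norm_num) (by norm_num)))
    (ka := (unpackL 120 89 0x7c0f1480b230a750b5d6a114b43077a89927466b2d86a05d280bdb4810e69b074699c9441f7aaa42b148b8840773ccc2d62782557b4d021b6440d160b8686b304f4c01154aae6ac68990a70cc863b22bb5d356a1eaa48101146e12910330b4480923d9f55ce2d0dc6ebd94d990665ba877d5286405289420905c734df51b22285c85b028d4ad0a08ea48262bb20b7a1a623b5d26280fb0e0f520f4308a14d640591ac8ba77bca6f54441856897118b41c60698b6231225ded22ce81881c37a0ca855a7a1a6711165ba601ac5a375a406290fbd60a335c89052f5da67a322428c028099258c8541e37051ee524c1b36b3881456ac5032433910763bd957229792476099cc6c69584ce401448badea359940cdd22d5af38d0b0244a84497bbaab9bda595a2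aa310939a032082093d3301c7769556ac0c40d18242dd1bd20b90c51b554f2b5894102e3981371ef244064028d5b0573608ad7d2294816a98eb76a0a20d9f13c8ce64284b3955b81672b469144d40bc936491071d805508130eb27cc4b4a2376c2c5b0a869a1ac7bae0926a13aa0b2c48348224648ed13c2545ece58d50accd438aed5416972023216d178274a9a4c01667b3a928086c8b6a82192bbbc2a89296025d244e1752da20beac29cc3ba86da9d76a01f13248e994506224180408ab1e6726e35c645989a7b128aa5cd19b5821c816838a4a9d015a54f53471126482c2c7a06f37016c255e69a209608c4bd64f0068a5d86d71e255524305ea1835332904772df1620d6b542a1c5045d0c2bc9ee0153064ced8ce8ab1960694e1a912283e5773068342570d0e940db65300412e6f8baa508daab56454a23333e872416e6005722cc98b6632b24eb0a81055f782907482359b28b7342290cf7315e8b4144891f4ad90130e0069d429a59772cb20b527795649a2c389aaea2a50602e23ba28a2c4985ca49598d78eaa99801bd98b354323c669235e8851ca28c022b536854077ba44a4d6c4186a886e2b9a675556060ed16a20e79121150b2752a9920aab048b33e133b22d00c57bda09334324394b7d487652332880359a050c502aa5a405af371e837b152502c68de900ac6d7149311df54a192016847b2a7bc47250a0942dd3336c1bdaaa5b45384587448c923c1408cae83ee58a9a9011146385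208eab39a762c88fa187113549add6c440ee05a617dda460a719502302e0e458e549955220f465ed31356f0052a918b574223b40a9139ec34c81bd683880e85496da00363123543aec849ab989e74a8a331583048ef4c221429c2bac94ab6d335e1388a4a75468284ec0112f6aed4549a7ab9f18098b290c89d9230069713d66a8c0545934730ea9c831836e45dc6f6daaa0c845801312391434cecb4592b94e90b5ca1816f120d424e15b38e678d00a36222aa614d57724a0c808c33b1372a83243a2b9d5e0a59a47d44d3a137650d65ca049806172a25bbecca41c69824bab52a41e2428c415992e782158b4e208cb7a2ad323248149f46a0e5201835d92e82ab10cee6bd9b4549cc246b04cd67418af10c209954024177898746b84fb24e164915232c11168054d06bbe351b60e5c9270486532e0aadd1461dc99c6cf0904da216e3c415206502b4769b1267a85790ab320131b32e30b4e581a8e4296f7b8161c9414522d62e042dea23a666bbe6ca1c6db010b21949942352b822685e242a032cef2a380c5a4d1b1ea4bb52435008616137aed53a9d20c46264271aae96524d793dc2234672a0011de2b63e086984795953a38a908095552b663964bbd2788a6d440262c860782e47411132c47b4db52868352592bdab49ca307b9ac5a928398a418820bd9b34d46a63a083c8cb79014088b1))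
    (kb := (unpackL 120 102 0x8928942a57b4733a984a2ed7301d1bb69578910b48c3712615b1474941153471126482c2c7a06f37016c255e600d94441b7954b3225677aac23442e6990498c5581577029f13b032726966c0a0bd2551bce85c44a70536610d3b86aa7cace3acad819289d18020a237b4a90b89059e7702983146d535112b40a9139ec34c81bd683880e85496d05df53c9a5531c4b2668a196280623481e453ac184cb78d4c25c8e36d18895223bd6c92b5862041013a683bd4b7cc491a1c780166a928c884b2bd94da5c132996eb4844ab4f0185f15250c4816a98eb76a0a20d9f13c8ce64284bce41a30c40560a43a2f5a5a7b144351229096d3a34e21c977702b0321ec1dde95daa2a1a2d9a1879288e80025781c4b99b182c49a3115186c591e6abac552b2c96c11451c9203a6f30e21a85f0548ae9880ba1c89432f11d9a6bda687d0b2801a64919551c4b8b861bbaab9bda595a2aa310939a03208201357191de4752d3314756213055c01bbdc9092aaa598784973045a830ca2b28061398822685bb6611c5eb954f0b054241a4e8a4a49806d5d1f761eb0646ef034ee554b02513608a633496840584a38c3ada2511da054a778256fba9275d5c8245f63426d9500c088a3b3dc5bd2ab0914c48068144d281db33b97045031688aa792c964803bccd5bda4fa4c15445a43b1504ac2670c4524a250d9f41a1666dc557014964e07bb5814c89089e6fa08a852ed53006e808c3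3b1372a83243a2b9d5e0a59a40a90d4d44b3ddf034ec4a31d2880a30a1317ced22b56638dd5a288c802e284cb71a54d72ceca0a28005f69189543c302d84a339733d48d00e32ba5942c161919ed024959dc474329650e2e686e803ece94c6c5a9342c482a9cd065933a0230339b711ea153ca41ad12231225ded22ce81881c37a0ca855a7a222471eebb02469c1b51944c0bd495992e782158b4e208cb7a2ad323248bc2723262d6388aa216fa9c7628801650768d6e9201f33c1a62b82a12d12095ab23cd19546a4a19485a6e380570a9c42b0d46d5eb942c888ce99dc40a5cd19b5821c816838a4a9d015a54fbdab49ca307b9ac5a928398a41882003c9245433b395433569642e71c4450b1aa85e6b956912a12039acf20c4ea2a57220158b9edb142c5c06611e691b253440afa8287312cd4aa2bb844eb0c8f3150092e370a58e6cd42a1eb02d586b0daf3a271ba5425921493820786b29c0a34dc4d3a906b100e8ad940d2083088c7d64502d2e9d8ea6c477bd6cc22230585b47a552398b310dc08281615e8641de12b1b11ba754c964b1e2ebad84029a9788a8186959426604e4fa9688534e20920e5992cb44772d0271be6c6c249592a88dccab01c22aaa394d2f03488646e759a90b384118549ac96e35a2d24deca1e0241417a4c4e0216abb4e460c308964fb5526bb04f0194ba4268392d228db5485d17a0507166d5a5818c897182963d4ca71cb20b5367ac909d1151454665c60bd9b34d46a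63a083c8cb79014088b1bbc15110f49b209b490a8b96d304a389caa0b5965be049a286bba55488609c9d08d6ec401b452ec7088642bcc9bc22a09e9363db6225662891590dc0129606c9e919a7620628832953ddc5122c552e0cba6a7981d27b486a4423aa406186929a985bb48e1456f458f001951b11750cd89a0c506be483dcae58a00a4df11b4ac305d2558974d4e8a2c12bd428b09a97c1878b864299532c05505a8434e486bd4c1b8eb4c6e13966945da1b28021c1ee59891a32b2bb68c21849a82123cd68b3c6a2862ea3e403c4ca731a2096e35cd16ac124b542a1c5045d0c2bc9ee0153064ced8be013cd141a584b09d53364b516e0b85f66520e34c125d5a9520f121462048ce9da888a59068ca4a9deb55c22bdaac9a62d58e147a24a31ca47044090ab320131b32e30b4e581a8e4296f1c64aa12625b4263b13643e05abae0894cc950813a84db4d09aadee80ee020254b09f1355c12cd43831373a1ab1c924a895684d608b105a19ed3b8371010732491628b684aaf5ce816dc6eba9e785636639289acd26d004104a30c98fb00f05256371aa243664a1637bd8d3589e93c1ae0b105ac9542440325decb096ea9ca1199116aa409d209022cb490273158f8564aa35d310e37))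
    (gens_M24 (by decide +kernel)) (gens_M24 (by decide +kernel))
    (by rw [code_zA, code_zB]; decide +kernel) hg h

/-- Generators of a Sylow 3-subgroup of `M24`. -/
def gP3 : List ℕ := [562804354486001025861237512351027734, 584997435018603450886620935609664675]

theorem gens_gP3 : Gens M24 gP3 := gens_M24 (by decide +kernel)

theorem listGrp_gP3 : listGrp gP3 (3 ^ 3) 33 0x112001120112001120112112011211211 = true := by
  decide +kernel

theorem three_classes {g : PG} (hg : g ∈ M24) (h : orderOf g = 3) :
    (∃ k ∈ M24, k * tA * k⁻¹ = g) ∨ ∃ k ∈ M24, k * tB * k⁻¹ = g :=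
  two_classes gens_gP3 listGrp_gP3
    (factorization_M24 _ _ (factorization_eq_of (by norm_num) (by norm_num) (by norm_num)))
    (ka := [420598453151944363792639233105506578, 540614563115672985114923112136584531, 140245791574235669633118900782944946, 254040012016025174678513982305113124, 515619837976800745979946801319413936, 971756153247780619495326323717706448, 807566489018372152382185164676178322, 671200016721529409924306442348864917, 91741161611777572450617733797753076, 967699135224923942610134122443091283, 382204685952845896790896938029680145, 338937549649645985306123423116333600, 984818244535754528103549039458486304, 459707688297459937024152019671687756])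
    (kb := [984818244535754528103549039458486304, 644048431840526195332183961762380099, 70560070584019517436448041954062592, 47679167973225106132052151029308000, 963784976061190444906309606230557012, 191721384840193591200611795095500171, 727408917469782149420530229181656643, 61107594414266022905005086350191634, 460091596067006191966291130208982417, 349918969431820442257310787745983575, 944115084156576844990660969977397389, 645208452790530998516301242589914114])
    (gens_M24 (by decide +kernel)) (gens_M24 (by decide +kernel))
    (by rw [code_tA, code_tB]; decide +kernel) hg h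

theorem conj_zA_of_card {g : PG} (hg : g ∈ M24) (h : orderOf g = 2) (h8 : (fixSet g).card ≠ 0) :
    ∃ k ∈ M24, k * zA * k⁻¹ = g := by
  refine (involution_classes hg h).resolve_right ?_
  rintro ⟨k, -, rfl⟩
  exact h8 (by rw [card_fixSet_conj, card_fixSet_zB])

theorem conj_zB_of_card {g : PG} (hg : g ∈ M24) (h : orderOf g = 2) (h8 : (fixSet g).card ≠ 8) :
    ∃ k ∈ M24, k * zB * k⁻¹ = g := by
  refine (involution_classes hg h).resolve_left ?_
  rintro ⟨k, -, rfl⟩
  exact h8 (by rw [card_fixSet_conj, card_fixSet_zA])

theorem conj_tA_of_card {g : PG} (hg : g ∈ M24) (h : orderOf g = 3) (h8 : (fixSet g).card ≠ 0) :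
    ∃ k ∈ M24, k * tA * k⁻¹ = g := by
  refine (three_classes hg h).resolve_right ?_
  rintro ⟨k, -, rfl⟩
  exact h8 (by rw [card_fixSet_conj, card_fixSet_tB])

theorem conj_tB_of_card {g : PG} (hg : g ∈ M24) (h : orderOf g = 3) (h8 : (fixSet g).card ≠ 6) :
    ∃ k ∈ M24, k * tB * k⁻¹ = g := by
  refine (three_classes hg h).resolve_left ?_
  rintro ⟨k, -, rfl⟩
  exact h8 (by rw [card_fixSet_conj, card_fixSet_tA])

theorem exists_conj_mem_zpowers_x5 {g : PG} (hg : g ∈ M24) (h : orderOf g = 5) :
    ∃ k ∈ M24, k * g * k⁻¹ ∈ Subgroup.zpowers x5 := by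
  have : Fact (Nat.Prime 5) := ⟨by norm_num⟩
  obtain ⟨k, hk, h'⟩ := exists_conj_le_of_card (H := M24) (P := Subgroup.zpowers x5)
    (Q := Subgroup.zpowers g) (p := 5) (k := 1) (Subgroup.zpowers_le.2 x5_mem)
    (by rw [Nat.card_zpowers, orderOf_x5, pow_one])
    (factorization_M24 _ _ (factorization_eq_of (by norm_num) (by norm_num) (by norm_num)))
    (Subgroup.zpowers_le.2 hg) (isPGroup_zpowers (j := 1) (by rw [pow_one, ← h, pow_orderOf_eq_one]))
  exact ⟨k, hk, h' g (Subgroup.mem_zpowers g)⟩

theorem exists_conj_mem_zpowers_x7 {g : PG} (hg : g ∈ M24) (h : orderOf g = 7) :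
    ∃ k ∈ M24, k * g * k⁻¹ ∈ Subgroup.zpowers x7 := by
  have : Fact (Nat.Prime 7) := ⟨by norm_num⟩
  obtain ⟨k, hk, h'⟩ := exists_conj_le_of_card (H := M24) (P := Subgroup.zpowers x7)
    (Q := Subgroup.zpowers g) (p := 7) (k := 1) (Subgroup.zpowers_le.2 x7_mem)
    (by rw [Nat.card_zpowers, orderOf_x7, pow_one])
    (factorization_M24 _ _ (factorization_eq_of (by norm_num) (by norm_num) (by norm_num)))
    (Subgroup.zpowers_le.2 hg) (isPGroup_zpowers (j := 1) (by rw [pow_one, ← h, pow_orderOf_eq_one]))
  exact ⟨k, hk, h' g (Subgroup.mem_zpowers g)⟩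

theorem exists_conj_mem_zpowers_x11 {g : PG} (hg : g ∈ M24) (h : orderOf g = 11) :
    ∃ k ∈ M24, k * g * k⁻¹ ∈ Subgroup.zpowers x11 := by
  have : Fact (Nat.Prime 11) := ⟨by norm_num⟩
  obtain ⟨k, hk, h'⟩ := exists_conj_le_of_card (H := M24) (P := Subgroup.zpowers x11)
    (Q := Subgroup.zpowers g) (p := 11) (k := 1) (Subgroup.zpowers_le.2 x11_mem)
    (by rw [Nat.card_zpowers, orderOf_x11, pow_one])
    (factorization_M24 _ _ (factorization_eq_of (by norm_num) (by norm_num) (by norm_num)))
    (Subgroup.zpowers_le.2 hg) (isPGroup_zpowers (j := 1) (by rw [pow_one, ← h, pow_orderOf_eq_one]))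
  exact ⟨k, hk, h' g (Subgroup.mem_zpowers g)⟩

theorem exists_conj_mem_zpowers_x23 {g : PG} (hg : g ∈ M24) (h : orderOf g = 23) :
    ∃ k ∈ M24, k * g * k⁻¹ ∈ Subgroup.zpowers x23 := by
  have : Fact (Nat.Prime 23) := ⟨by norm_num⟩
  obtain ⟨k, hk, h'⟩ := exists_conj_le_of_card (H := M24) (P := Subgroup.zpowers x23)
    (Q := Subgroup.zpowers g) (p := 23) (k := 1) (Subgroup.zpowers_le.2 x23_mem)
    (by rw [Nat.card_zpowers, orderOf_x23, pow_one])
    (factorization_M24 _ _ (factorization_eq_of (by norm_num) (by norm_num) (by norm_num)))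
    (Subgroup.zpowers_le.2 hg) (isPGroup_zpowers (j := 1) (by rw [pow_one, ← h, pow_orderOf_eq_one]))
  exact ⟨k, hk, h' g (Subgroup.mem_zpowers g)⟩

theorem fixSet_of_mem_zpowers {x y : PG} {p : ℕ} (hp : p.Prime) (hx : orderOf x = p)
    (hy : y ∈ Subgroup.zpowers x) (hne : y ≠ 1) : fixSet y = fixSet x := by
  have hle : Subgroup.zpowers y ≤ Subgroup.zpowers x := Subgroup.zpowers_le.2 hy
  have hd : orderOf y ∣ p := by
    rw [← hx, ← Nat.card_zpowers, ← Nat.card_zpowers]; exact Subgroup.card_dvd_of_le hle
  have ho : orderOf y = p := ((Nat.dvd_prime hp).1 hd).resolve_left (by simpa using hne)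
  have he : Subgroup.zpowers y = Subgroup.zpowers x :=
    Subgroup.eq_of_le_of_card_ge hle (by rw [Nat.card_zpowers, Nat.card_zpowers, ho, hx])
  have key : ∀ a b : PG, b ∈ Subgroup.zpowers a → ∀ q, a q = q → b q = q := by
    intro a b hb q hq
    exact (Subgroup.zpowers_le (H := stabilizer PG q)).2 hq hb
  ext q
  rw [mem_fixSet, mem_fixSet]
  exact ⟨key y x (he ▸ Subgroup.mem_zpowers x) q, key x y hy q⟩

theorem card_fixSet_of_conj_mem {x g : PG} {p : ℕ} (hp : p.Prime) (hx : orderOf x = p)
    (hg : orderOf g = p) (h : ∃ k ∈ M24, k * g * k⁻¹ ∈ Subgroup.zpowers x) :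
    (fixSet g).card = (fixSet x).card := by
  obtain ⟨k, -, hk⟩ := h
  rw [← card_fixSet_conj k g, fixSet_of_mem_zpowers hp hx hk]
  rw [Ne, conj_eq_one_iff]
  rintro rfl
  rw [orderOf_one] at hg
  exact hp.one_lt.ne hg

theorem card_fixSet_five {g : PG} (hg : g ∈ M24) (h : orderOf g = 5) : (fixSet g).card = 4 := by
  rw [card_fixSet_of_conj_mem (by norm_num) orderOf_x5 h (exists_conj_mem_zpowers_x5 hg h),
    card_fixSet_x5]

theorem card_fixSet_seven {g : PG} (hg : g ∈ M24) (h : orderOf g = 7) : (fixSet g).card = 3 := by
  rw [card_fixSet_of_conj_mem (by norm_num) orderOf_x7 h (exists_conj_mem_zpowers_x7 hg h),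
    card_fixSet_x7]

theorem card_fixSet_eleven {g : PG} (hg : g ∈ M24) (h : orderOf g = 11) :
    (fixSet g).card = 2 := by
  rw [card_fixSet_of_conj_mem (by norm_num) orderOf_x11 h (exists_conj_mem_zpowers_x11 hg h),
    card_fixSet_x11]

theorem card_fixSet_twentythree {g : PG} (hg : g ∈ M24) (h : orderOf g = 23) :
    (fixSet g).card = 1 := by
  rw [card_fixSet_of_conj_mem (by norm_num) orderOf_x23 h (exists_conj_mem_zpowers_x23 hg h),
    card_fixSet_x23]

theorem card_fixSet_two {g : PG} (hg : g ∈ M24) (h : orderOf g = 2) :
    (fixSet g).card = 8 ∨ (fixSet g).card = 0 := by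
  rcases involution_classes hg h with ⟨k, -, rfl⟩ | ⟨k, -, rfl⟩
  · left; rw [card_fixSet_conj, card_fixSet_zA]
  · right; rw [card_fixSet_conj, card_fixSet_zB]

theorem card_fixSet_three {g : PG} (hg : g ∈ M24) (h : orderOf g = 3) :
    (fixSet g).card = 6 ∨ (fixSet g).card = 0 := by
  rcases three_classes hg h with ⟨k, -, rfl⟩ | ⟨k, -, rfl⟩
  · left; rw [card_fixSet_conj, card_fixSet_tA]
  · right; rw [card_fixSet_conj, card_fixSet_tB]

end Cfsg.Agent.Spor.MB
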