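import Mathlib
import Cfsg.Agent.Spor.MB.Trio

/-!
# Orbits of octad and dodecad stabilisers on octads and dodecads; maximality criterion
-/

namespace Cfsg.Agent.Spor.MB

open Cfsg MulAction
open scoped Pointwise

theorem conj_smul_smul {X : Type*} [MulAction PG X] (g : PG) {k : PG} {x x' : X} (h : k • x = x') :
    (g * k * g⁻¹) • g • x = g • x' := by
  rw [mul_smul, inv_smul_smul, mul_smul, h]

theorem conj_apply_apply (g : PG) {k : PG} {p p' : GolayPt} (h : k p = p') :
    (g * k * g⁻¹) (g p) = g p' := by
  simp [h]

theorem conj_mem_M24 {g k : PG} (hg : g ∈ M24) (hk : k ∈ M24) : g * k * g⁻¹ ∈ M24 :=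
  M24.mul_mem (M24.mul_mem hg hk) (M24.inv_mem hg)

theorem exists_eq_smul {X : Type*} [MulAction PG X] (g : PG) (x : X) : ∃ y, x = g • y :=
  ⟨g⁻¹ • x, (smul_inv_smul g x).symm⟩

theorem exists_eq_apply (g : PG) (x : GolayPt) : ∃ y, x = g y :=
  ⟨g⁻¹ x, by simp⟩

theorem card_inter_of_fix {g : PG} {s : Finset GolayPt} (h : g • s = s) (t : Finset GolayPt) :
    (s ∩ g • t).card = (s ∩ t).card := by
  conv_lhs => rw [← h]
  exact card_smul_inter g s t

theorem card_unmask_inter (a : ℕ) (s : Finset GolayPt) :
    (unmask a ∩ s).card = pc (Nat.land a (mask s)) := by
  conv_lhs => rw [← unmask_mask s, ← unmask_land, card_unmask]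

theorem isCoatom_stabilizer_smul {G X : Type*} [Group G] [MulAction G X] {x : X}
    (h : IsCoatom (stabilizer G x)) (g : G) : IsCoatom (stabilizer G (g • x)) := by
  rw [stabilizer_smul_eq_stabilizer_map_conj]
  exact (OrderIso.isCoatom_iff (MulAut.conj g).mapSubgroup _).2 h

/-- Arithmetic primitivity criterion from the subdegrees. -/
theorem isCoatom_of_partition {G X ι : Type*} [Group G] [Finite G] [MulAction G X] [Fintype ι]
    [DecidableEq ι] {x : X} {T : Set X} (hT : orbit G x = T) {f : X → ℕ} {v n : ι → ℕ}
    (hc : ∀ i, {y | y ∈ T ∧ f y = v i}.ncard = n i)
    (htr : ∀ y ∈ T, ∀ y' ∈ T, f y = f y' → ∃ h : stabilizer G x, h • y = y')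
    (hcov : ∀ y ∈ T, ∃ i, f y = v i) (hinj : Function.Injective v) {N : ℕ} (hN : T.ncard = N)
    (h1 : 1 < N) (harith : ∀ I : Finset ι, (∑ i ∈ I, n i) ∣ N → ∑ i ∈ I, n i = 1 ∨
      ∑ i ∈ I, n i = N) : IsCoatom (stabilizer G x) := by
  classical
  have hidx : (stabilizer G x).index = N := by rw [index_stabilizer, hT, hN]
  have hTf : T.Finite := hT ▸ Set.finite_range _
  constructor
  · intro h
    rw [h, Subgroup.index_top] at hidx
    omega
  · intro K hK
    have hrel : (stabilizer G x).relIndex K = (orbit K x).ncard := by
      rw [Subgroup.relIndex, ← index_stabilizer]; rfl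
    have hsub : orbit K x ⊆ T := by
      rintro _ ⟨k, rfl⟩
      rw [← hT]; exact ⟨k, rfl⟩
    let I : Finset ι := Finset.univ.filter fun i => ∃ y ∈ orbit K x, f y = v i
    let F : ι → Finset X := fun i => hTf.toFinset.filter fun y => f y = v i
    have hF : ∀ i, (F i).card = n i := by
      intro i; rw [← hc, ← Set.ncard_coe_finset]; congr 1; ext y; simp [F]
    have hU : orbit K x = ↑(I.biUnion F) := by
      ext y
      simp only [Finset.coe_biUnion, Set.mem_iUnion, Finset.mem_coe, I, F, Finset.mem_filter,
        Finset.mem_univ, true_and, Set.Finite.mem_toFinset, exists_prop]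
      constructor
      · intro hy
        obtain ⟨i, hi⟩ := hcov y (hsub hy)
        exact ⟨i, ⟨y, hy, hi⟩, hsub hy, hi⟩
      · rintro ⟨i, ⟨z, hz, hzi⟩, hy, hi⟩
        obtain ⟨h, rfl⟩ := htr z (hsub hz) y hy (hzi.trans hi.symm)
        exact mem_orbit_of_mem_orbit (⟨h, hK.le h.2⟩ : K) hz
    have hdisj : (I : Set ι).PairwiseDisjoint F := by
      intro i _ j _ hij
      refine Finset.disjoint_left.2 fun y h1 h2 => hij (hinj ?_)
      simp only [F, Finset.mem_filter] at h1 h2
      rw [← h1.2, h2.2]
    have hcard : (stabilizer G x).relIndex K = ∑ i ∈ I, n i := by
      rw [hrel, hU, Set.ncard_coe_finset, Finset.card_biUnion hdisj]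
      exact Finset.sum_congr rfl fun i _ => hF i
    have hmul := Subgroup.relIndex_mul_index hK.le
    rw [hidx, hcard] at hmul
    rcases harith I (Dvd.intro _ hmul) with h | h
    · rw [← hcard, Subgroup.relIndex_eq_one] at h
      exact absurd hK (not_lt_of_ge h)
    · rw [h] at hmul
      rw [← Subgroup.index_eq_one]
      exact Nat.eq_of_mul_eq_mul_left (by omega : 0 < N) (by rw [hmul, mul_one])

theorem orbit_M24_eq {X : Type} [MulAction PG X] {x : X} {T : Set X}
    (hsub : ∀ g ∈ M24, g • x ∈ T) (htr : ∀ y ∈ T, ∃ g ∈ M24, g • x = y) : orbit M24 x = T := by
  ext y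
  constructor
  · rintro ⟨g, rfl⟩; exact hsub g g.2
  · intro hy
    obtain ⟨g, hg, rfl⟩ := htr y hy
    exact ⟨⟨g, hg⟩, rfl⟩

theorem exists_stabilizer_M24 {X Y : Type} [MulAction PG X] [MulAction PG Y] {x : X} {y y' : Y}
    (h : ∃ h : ↥(M24 ⊓ stabilizer PG x), h • y = y') : ∃ h : stabilizer M24 x, h • y = y' := by
  obtain ⟨h, e⟩ := h
  exact ⟨⟨⟨h.1, h.2.1⟩, h.2.2⟩, e⟩

theorem octad_orbits_O0 :
    (∀ i, {y | y ∈ octads ∧ (O0 ∩ y).card = ![0, 2, 4, 8] i}.ncard = ![30, 448, 280, 1] i) ∧
    (∀ y ∈ octads, ∀ y' ∈ octads, (O0 ∩ y).card = (O0 ∩ y').card →
      ∃ h : ↥(M24 ⊓ stabilizer PG O0), h • y = y') ∧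
    ∀ y ∈ octads, ∃ i, (O0 ∩ y).card = ![0, 2, 4, 8] i := by
  refine orbit_partition' (H := ↥(M24 ⊓ stabilizer PG O0)) (Set.toFinite _)
    (fun h y hy => (smul_mem_octads_iff h.2.1).2 hy) (f := fun y => (O0 ∩ y).card)
    (fun h y _ => card_inter_of_fix h.2.2 y)
    ![unmask 6889680, unmask 4845570, unmask 13062145, unmask 8536111] ?_ _
    (by decide +kernel) (by decide) _ ?_ (by rw [ncard_octads]; decide)
  · simp only [Fin.forall_fin_succ]
    refine ⟨?_, ?_, ?_, ?_, finZeroElim⟩ <;>
      exact unmask_mem_octads (by decide +kernel) (by decide +kernel)
  · simp only [Fin.forall_fin_succ]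
    exact ⟨setM.le_ncard_orbit inf_le_left gens_gO0 (setM_R (by norm_num))
        30 52 0x2000000000000000000000211111120111111201111112111111 (by decide +kernel),
      setM.le_ncard_orbit inf_le_left gens_gO0 (setM_R (by norm_num))
        448 650 0x11111120000000000000000000000000000000000000000000000000000001111112000000000000000111111200111111200000000000000000000111111200000000000000000111111200111111200000000001111112000000001111112000000000000000001111112000011111120000111111211111120001111112111111200000000000001111112000011111121111112011111120000111111211111120111111211111120111111200001111112111111200111111200111111200011111121111112111111211111120111111201111112111111200011111121111112111111211111120111111211111121111112111111201111112111111211111121111112011111121111112011111121111112111111211111120111111211111120111111211111121111112111111201111112111111211111121111112111111 (by decide +kernel),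
      setM.le_ncard_orbit inf_le_left gens_gO0 (setM_R (by norm_num))
        280 386 0x11111120000000000000000000000000000000000000000000000000000000000000000000001111112000111111200000000011111120011111120011111121111112111111200011111120000001111112111111211111121111112000111111211111121111112011111120111111211111121111112000011111121111112111111211111120111111211111121111112111111201111112111111211111120111111211111121111112111111201111112111111211111121111112111111 (by decide +kernel),
      setM.le_ncard_orbit inf_le_left gens_gO0 (setM_R (by norm_num))
        1 0 0x0 (by decide +kernel), finZeroElim⟩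

theorem octad_pair_trans {o o' o'' : Finset GolayPt} (ho : o ∈ octads) (ho' : o' ∈ octads)
    (ho'' : o'' ∈ octads) (h : (o ∩ o').card = (o ∩ o'').card) :
    ∃ g : PG, g ∈ M24 ∧ g • o = o ∧ g • o' = o'' := by
  obtain ⟨g, hg, rfl⟩ := exists_smul_O0 ho
  obtain ⟨o', rfl⟩ := exists_eq_smul g o'
  obtain ⟨o'', rfl⟩ := exists_eq_smul g o''
  rw [smul_mem_octads_iff hg] at ho' ho''
  rw [card_smul_inter, card_smul_inter] at h
  obtain ⟨k, e⟩ := octad_orbits_O0.2.1 o' ho' o'' ho'' h
  exact ⟨_, conj_mem_M24 hg k.2.1, conj_smul_smul g k.2.2, conj_smul_smul g e⟩

theorem octad_inter_count {o : Finset GolayPt} (ho : o ∈ octads) (i : Fin 4) :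
    {y | y ∈ octads ∧ (o ∩ y).card = ![0, 2, 4, 8] i}.ncard = ![30, 448, 280, 1] i := by
  obtain ⟨g, hg, rfl⟩ := exists_smul_O0 ho
  rw [← octad_orbits_O0.1 i]
  exact ncard_smul_eq g (by
    intro y; simp only [Set.mem_ofPred_eq, smul_mem_octads_iff hg, card_smul_inter])

theorem dodecad_orbits_D0 :
    (∀ i, {y | y ∈ dodecads ∧ (D0 ∩ y).card = ![0, 4, 6, 8, 12] i}.ncard =
      ![1, 495, 1584, 495, 1] i) ∧
    (∀ y ∈ dodecads, ∀ y' ∈ dodecads, (D0 ∩ y).card = (D0 ∩ y').card →
      ∃ h : ↥(M24 ⊓ stabilizer PG D0), h • y = y') ∧
    ∀ y ∈ dodecads, ∃ i, (D0 ∩ y).card = ![0, 4, 6, 8, 12] i := by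
  refine orbit_partition' (H := ↥(M24 ⊓ stabilizer PG D0)) (Set.toFinite _)
    (fun h y hy => (smul_mem_dodecads_iff h.2.1).2 hy) (f := fun y => (D0 ∩ y).card)
    (fun h y _ => card_inter_of_fix h.2.2 y)
    ![unmask 16436384, unmask 16748578, unmask 8245261, unmask 11472927,
      unmask 340831] ?_ _
    (by decide +kernel) (by decide) _ ?_ (by rw [ncard_dodecads]; decide)
  · simp only [Fin.forall_fin_succ]
    refine ⟨?_, ?_, ?_, ?_, ?_, finZeroElim⟩ <;>
      exact unmask_mem_dodecads (by decide +kernel) (by decide +kernel)
  · simp only [Fin.forall_fin_succ]
    exact ⟨setM.le_ncard_orbit inf_le_left gens_gD0 (setM_R (by norm_num))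
        1 0 0x0 (by decide +kernel),
      setM.le_ncard_orbit inf_le_left gens_gD0 (setM_R (by norm_num))
        495 707 0x11200000000001111120000000000000000000000000000000000000000000000000000000011111211111200001111120000011111200000001120000011111200111112001111120111112000000000000000000000011111200001111120011111200001111120001111120011111201111120000011200011111201111120000000000011111200000000111112000000000000000001111121111120001111121111120000011111201111121111120011211111200111112111112111112111112011111200001111120111112000111112111112011111211111211111211111200111112111112011111211111201121111121111120111112001111120111112111112011111211111211111211111211111211111211111211111201111121111121111121111121111121111120011111201111121111121111120011111211111211111211111211111211111211111211111211111211111211111 (by decide +kernel),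
      setM.le_ncard_orbit inf_le_left gens_gD0 (setM_R (by norm_num))
        1584 2425 0x1111120000000000000000000000000000000120000000000000000000000000000000011111200000000000000000000000000000000000000000000000000000000012000000000000000000000000000000000000000000000001111120000000000000000011111200000000000000000000000000000000000011111200000000000000001111120000011111200000000000000000111112000000000000000120000000000000000011111200000000000000000000000000000000000000000000000000000000000001111120000000000000000000000000000000000000120000011111200000000000011111200000000111112000000000000000000000000000000000000000001111121111120000000011111200000111112111112000000000000011111200111112111112000000000000111112000111112000011111200000000000011111200111112000000011111211111200000000011111200012111112000000000111112000000000000000000000011111200000111112111112000111112000011111200000000000011111200011111200000000111112111112001111120000011111200000000000000000111112011111200000000000000000000001111120000000111112000000000000000000000111112011111200111112011111200111112001111120001111120000000000000011111211111200111112000111112000000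001111120001111121111120111112011111200111112001111120111112111112000111112011111211111211111201111121111121111120001111121111120001111120111112111112000000001111120001111121111120011111211111211111200001111120111112111112011111200111112001111120111112011111200111112011111200111112111112011111201111121111121111120111112001111121111121111120111112111112111112011111211111201111121111121111120111112000011111200001111120011111200111112111112111112111112111112111112111112111112111112001111121111120111112111112111112001111120011111201111121111121111120111112111112011111211111211111201111121111120000000111112111112111112111112000111112111112000111112111112011111211111200111112011111211111211111211111211111200111112111112111112111112011111211111201111121111121111121111121111120121111121111121111121111120111112011111200111112111112111112001111121111121111120111112111112111112011111200111112111112111112111112111112111112111112011111211111211111211111211111211111211111201111121111121111121111121111121111120011111211111211111211111211111211111211111201111121111121111121111121111121111121111121111121111121111120111112001111121111121111121111120111112111112111112111112111112011111211111211111201111121111121111121111121111121111121111120111112111112111112111112111112111112111112111112111112111112011111211111211111211111211111211111211111211111211111211111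 (by decide +kernel),
      setM.le_ncard_orbit inf_le_left gens_gD0 (setM_R (by norm_num))
        495 824 0x11200000000000000000000000000000000000000000000000000000000000000000000000000000000000000000000000000000000001111120000000000000000000000000000000000000000000000000011111200000000000000000000000000111112000000000000000000000000111112000000011111200000000000011111201111120001111121111120011111200000000000000011111211200000000000011111200111112000000011111200111112111112011111211111211111200000000111112001111121111120000111112111112111112000000000000000000000112011111200111112011111211111211111201111120011111211111201111121111120111112111112011111201111121111120111112011111211111201120111112111112111112111112111112111112001111120111112111112111112001121111121111120111112111112011111211111211111211111211111211111211111211111201111121111121111121111121111120111112011111211111211111211111211111211111211111211111211111 (by decide +kernel),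
      setM.le_ncard_orbit inf_le_left gens_gD0 (setM_R (by norm_num))
        1 0 0x0 (by decide +kernel), finZeroElim⟩

theorem dodecad_pair_trans {o o' o'' : Finset GolayPt} (ho : o ∈ dodecads) (ho' : o' ∈ dodecads)
    (ho'' : o'' ∈ dodecads) (h : (o ∩ o').card = (o ∩ o'').card) :
    ∃ g : PG, g ∈ M24 ∧ g • o = o ∧ g • o' = o'' := by
  obtain ⟨g, hg, rfl⟩ := exists_smul_D0 ho
  obtain ⟨o', rfl⟩ := exists_eq_smul g o'
  obtain ⟨o'', rfl⟩ := exists_eq_smul g o''
  rw [smul_mem_dodecads_iff hg] at ho' ho''
  rw [card_smul_inter, card_smul_inter] at h
  obtain ⟨k, e⟩ := dodecad_orbits_D0.2.1 o' ho' o'' ho'' h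
  exact ⟨_, conj_mem_M24 hg k.2.1, conj_smul_smul g k.2.2, conj_smul_smul g e⟩

theorem dodecad_inter_count {o : Finset GolayPt} (ho : o ∈ dodecads) (i : Fin 5) :
    {y | y ∈ dodecads ∧ (o ∩ y).card = ![0, 4, 6, 8, 12] i}.ncard = ![1, 495, 1584, 495, 1] i := by
  obtain ⟨g, hg, rfl⟩ := exists_smul_D0 ho
  rw [← dodecad_orbits_D0.1 i]
  exact ncard_smul_eq g (by
    intro y; simp only [Set.mem_ofPred_eq, smul_mem_dodecads_iff hg, card_smul_inter])

theorem dodecad_inter_cases {o o' : Finset GolayPt} (ho : o ∈ dodecads) (ho' : o' ∈ dodecads) :
    ∃ i, (o ∩ o').card = ![0, 4, 6, 8, 12] i := by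
  obtain ⟨g, hg, rfl⟩ := exists_smul_D0 ho
  obtain ⟨o', rfl⟩ := exists_eq_smul g o'
  rw [smul_mem_dodecads_iff hg] at ho'
  rw [card_smul_inter]
  exact dodecad_orbits_D0.2.2 o' ho'

end Cfsg.Agent.Spor.MB
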