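import Mathlib
import Cfsg.Agent.Spor.MB.Res

/-!
# Invariant subspaces of the binary permutation module of `M24`
-/

namespace Cfsg.Agent.Spor.MB

open Cfsg MulAction Cfsg.Agent.Spor.BinCode
open scoped Pointwise

/-- Invariance of a subspace under `M24`. -/
def Inv (W : Submodule (ZMod 2) (GolayPt → ZMod 2)) : Prop :=
  ∀ σ ∈ M24, ∀ w ∈ W, (fun p => w (σ.symm p)) ∈ W

variable {W : Submodule (ZMod 2) (GolayPt → ZMod 2)}

theorem ind_smul' (σ : PG) (s : Finset GolayPt) : ind (σ • s) = fun p => ind s (σ.symm p) :=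
  Golay.ind_smul σ s

theorem Inv.smul (h : Inv W) {g : PG} (hg : g ∈ M24) {s : Finset GolayPt} (hs : ind s ∈ W) :
    ind (g • s) ∈ W := by rw [ind_smul']; exact h g hg _ hs

theorem ind_symmDiff_mem {s t : Finset GolayPt} (hs : ind s ∈ W) (ht : ind t ∈ W) :
    ind (symmDiff s t) ∈ W := by rw [ind_symmDiff]; exact W.add_mem hs ht

theorem inv_golay : Inv golayCode := fun _ hσ w hw =>
  (Golay.mem_M24_iff _).1 (M24.inv_mem hσ) w hw

theorem Inv.sup {W' : Submodule (ZMod 2) (GolayPt → ZMod 2)} (h : Inv W) (h' : Inv W') :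
    Inv (W ⊔ W') := by
  intro σ hσ w hw
  obtain ⟨a, ha, b, hb, rfl⟩ := Submodule.mem_sup.1 hw
  exact Submodule.mem_sup.2 ⟨_, h σ hσ a ha, _, h' σ hσ b hb, rfl⟩

theorem Inv.golay_le_of_octad (h : Inv W) {o : Finset GolayPt} (ho : o ∈ octads)
    (hW : ind o ∈ W) : golayCode ≤ W := by
  rw [← Golay.isGolay.span_octads, Submodule.span_le]
  intro w hw
  obtain ⟨g, hg, e⟩ := Golay.exists_smul_octad_eq ho (o' := support₂ w)
    ⟨support₂_mem_CW.2 hw.1, by rw [← hammingNorm_eq_card]; exact hw.2⟩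
  have := h.smul hg hW
  rwa [e, ind_support] at this

theorem Inv.golay_le (h : Inv W) {s : Finset GolayPt} (hs : s ∈ CW) (hW : ind s ∈ W)
    (h0 : s ≠ ∅) (h1 : s ≠ Finset.univ) : golayCode ≤ W := by
  rcases card_cases hs with e | e | e | e | e
  · exact absurd (Finset.card_eq_zero.1 e) h0
  · exact h.golay_le_of_octad ⟨hs, e⟩ hW
  · obtain ⟨a, ha, e1⟩ := Golay.exists_smul_dodecad_eq ⟨hs, e⟩ D0_mem
    obtain ⟨b, hb, e2⟩ := Golay.exists_smul_dodecad_eq ⟨hs, e⟩
      (unmask_mem_dodecads (m := 11472927) (by decide +kernel) (by decide +kernel))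
    have := ind_symmDiff_mem (h.smul ha hW) (h.smul hb hW)
    rw [e1, e2, ← unmask_xor] at this
    exact h.golay_le_of_octad (unmask_mem_octads (by decide +kernel) (by decide +kernel)) this
  · have hc : sᶜ ∈ octads := ⟨compl_mem_CW hs, by rw [card_compl, e]⟩
    obtain ⟨a, ha, e1⟩ := Golay.exists_smul_octad_eq hc O0_mem
    obtain ⟨b, hb, e2⟩ := Golay.exists_smul_octad_eq hc
      (unmask_mem_octads (m := 13062145) (by decide +kernel) (by decide +kernel))
    have := ind_symmDiff_mem (h.smul ha hW) (h.smul hb hW)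
    rw [← compl_symmDiff_compl, smul_compl, smul_compl, e1, e2, ← unmask_xor] at this
    exact h.golay_le_of_octad (unmask_mem_octads (by decide +kernel) (by decide +kernel)) this
  · exact absurd (Finset.eq_univ_of_card s (by rw [e, card_golayPt])) h1

theorem Inv.duads (h : Inv W) {t : Finset GolayPt} (h0 : t ≠ ∅) (h5 : t.card ≤ 5)
    (ht : ∀ g ∈ M24, ind (symmDiff (g • t) t) ∈ W) {d : Finset GolayPt} (hd : d.card = 2) :
    ind d ∈ W := by
  obtain ⟨p, hp⟩ := Finset.nonempty_iff_ne_empty.2 h0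
  obtain ⟨q, -, hq⟩ := Finset.exists_mem_notMem_of_card_lt_card (s := t) (t := Finset.univ)
    (by rw [Finset.card_univ, card_golayPt]; omega)
  have hpq : p ≠ q := fun e => hq (e ▸ hp)
  obtain ⟨g, hg, e⟩ := Golay.exists_smul_finset_eq (s := t) (t := insert q (t.erase p)) (by
    rw [Finset.card_insert_of_notMem (fun h => hq (Finset.mem_of_mem_erase h)),
      Finset.card_erase_add_one hp]) h5
  have h1 := ht g hg
  have e' : symmDiff (insert q (t.erase p)) t = {p, q} := by
    ext x
    simp only [Finset.mem_symmDiff, Finset.mem_insert, Finset.mem_erase, Finset.mem_singleton]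
    by_cases h1 : x = p
    · subst h1; simp [hp, hpq]
    · by_cases h2 : x = q
      · subst h2; simp [hq]
      · simp [h1, h2]
  rw [e, e'] at h1
  obtain ⟨k, hk, e⟩ := Golay.exists_smul_finset_eq (s := {p, q}) (t := d)
    (by rw [Finset.card_pair hpq, hd]) (by rw [Finset.card_pair hpq]; norm_num)
  rw [← e]
  exact h.smul hk h1

theorem even_mem_of_duads (h : ∀ d : Finset GolayPt, d.card = 2 → ind d ∈ W) (n : ℕ) :
    ∀ s : Finset GolayPt, s.card = 2 * n → ind s ∈ W := by
  induction n with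
  | zero => intro s hs; rw [Finset.card_eq_zero.1 hs, ind_empty]; exact W.zero_mem
  | succ n ih =>
    intro s hs
    obtain ⟨d, hd, h2⟩ := Finset.exists_subset_card_eq (n := 2) (s := s) (by omega)
    have := ind_symmDiff_mem (ih (s \ d) (by rw [Finset.card_sdiff_of_subset hd]; omega)) (h d h2)
    rwa [Finset.disjoint_sdiff.symm.symmDiff_eq_sup, Finset.sup_eq_union,
      Finset.sdiff_union_of_subset hd] at this

theorem sum_eq_zero_iff (w : GolayPt → ZMod 2) : ∑ p, w p = 0 ↔ Even (support₂ w).card := by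
  have := dot_eq_zero_iff w 1
  rw [← ind_univ, support_ind, Finset.inter_univ, ind_univ] at this
  simpa using this

theorem eq_of_fix_duad {d c : Finset GolayPt} (hd : d.card = 2) (hc : c ∈ CW)
    (h : ∀ g ∈ Golay.Fix d, g • c = c) : c = ∅ ∨ c = Finset.univ := by
  by_contra hn
  rw [not_or] at hn
  have h1 : 8 ≤ c.card ∧ c.card ≤ 16 := by
    rcases card_cases hc with e | e | e | e | e
    · exact absurd (Finset.card_eq_zero.1 e) hn.1
    · omega
    · omega
    · omega
    · exact absurd (Finset.eq_univ_of_card c (by rw [e, card_golayPt])) hn.2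
  obtain ⟨x, hx, hx'⟩ := Finset.exists_mem_notMem_of_card_lt_card (s := d) (t := c) (by omega)
  obtain ⟨y, hy, hy'⟩ := Finset.exists_mem_notMem_of_card_lt_card (s := d) (t := cᶜ)
    (by rw [card_compl]; omega)
  obtain ⟨g, hg, e⟩ := Golay.exists_Fix_map_list d [x] [y] (by simp) (by simp) (by simpa)
    (by simpa) rfl (by simp [hd])
  simp only [List.map_cons, List.map_nil, List.cons.injEq, and_true] at e
  exact Finset.mem_compl.1 hy (e ▸ (smul_mem_iff_of_smul_eq (h g hg) x).2 hx)

/-- An invariant subspace not contained in the code contains all duads. -/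
theorem Inv.duads_of_not_le (h : Inv W) (hn : ¬ W ≤ golayCode) {d : Finset GolayPt}
    (hd : d.card = 2) : ind d ∈ W := by
  obtain ⟨w, hw, hw'⟩ := SetLike.not_le_iff_exists.1 hn
  obtain ⟨t, ht, hc⟩ := Golay.isGolay.exists_small w
  have h0 : t ≠ ∅ := by rintro rfl; exact hw' (by simpa using hc)
  have h' := h.sup inv_golay
  have htW : ind t ∈ W ⊔ golayCode := by
    have := Submodule.add_mem_sup hw hc
    rwa [← add_assoc, word_add_self, zero_add] at this
  have hdW : ind d ∈ W ⊔ golayCode :=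
    h'.duads h0 (by omega) (fun g hg => ind_symmDiff_mem (h'.smul hg htW) htW) hd
  by_cases hC : golayCode ≤ W
  · rwa [sup_eq_left.2 hC] at hdW
  obtain ⟨a, ha, b, hb, e⟩ := Submodule.mem_sup.1 hdW
  have hc : support₂ b ∈ CW := support₂_mem_CW.2 hb
  have ha' : ind (symmDiff d (support₂ b)) ∈ W := by
    rwa [ind_symmDiff, ind_support, ← e, add_assoc, word_add_self, add_zero]
  generalize support₂ b = c at hc ha'
  obtain ⟨p, hp⟩ : d.Nonempty := Finset.card_pos.1 (by omega)
  have key : c = ∅ ∨ c = Finset.univ := eq_of_fix_duad hd hc fun g hg => by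
    have hg' := Golay.mem_Fix.1 hg
    have h1 := ind_symmDiff_mem (h.smul hg'.1 ha') ha'
    rw [smul_symmDiff, smul_eq_of_fix hg'.2, symmDiff_symmDiff_symmDiff_comm, symmDiff_self,
      bot_symmDiff] at h1
    by_contra hne
    refine hC (h.golay_le (symmDiff_mem_CW (smul_mem_CW hg'.1 hc) hc) h1
      (fun e => hne (symmDiff_eq_bot.1 e)) fun e => ?_)
    have : p ∈ symmDiff (g • c) c := e ▸ Finset.mem_univ p
    rw [Finset.mem_symmDiff, mem_smul_iff_of_fix (hg'.2 p hp)] at this
    tauto
  rcases key with rfl | rfl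
  · rwa [show symmDiff d ∅ = d from symmDiff_bot d] at ha'
  · rw [show symmDiff d Finset.univ = dᶜ from symmDiff_top d] at ha'
    refine h.duads (t := d) (by rintro rfl; simp at hd) (by omega) (fun g hg => ?_) hd
    rw [← compl_symmDiff_compl, smul_compl]
    exact ind_symmDiff_mem (h.smul hg ha') ha'

theorem Inv.cases_of_le (h : Inv W) (hle : W ≤ golayCode) :
    W = ⊥ ∨ W = Submodule.span (ZMod 2) {fun _ => (1 : ZMod 2)} ∨ W = golayCode := by
  by_cases hC : golayCode ≤ W
  · exact Or.inr (Or.inr (le_antisymm hle hC))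
  have key : ∀ w ∈ W, w = 0 ∨ w = 1 := by
    intro w hw
    by_contra hn
    rw [not_or] at hn
    refine hC (h.golay_le (support₂_mem_CW.2 (hle hw)) (by rwa [ind_support]) (fun e => hn.1 ?_)
      fun e => hn.2 ?_)
    · rw [← ind_support w, e, ind_empty]
    · rw [← ind_support w, e, ind_univ]
  by_cases h1 : (1 : GolayPt → ZMod 2) ∈ W
  · refine Or.inr (Or.inl (le_antisymm (fun w hw => ?_) ?_))
    · rcases key w hw with rfl | rfl
      exacts [Submodule.zero_mem _, Submodule.subset_span rfl]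
    · rw [Submodule.span_le, Set.singleton_subset_iff]; exact h1
  · refine Or.inl (eq_bot_iff.2 fun w hw => ?_)
    rcases key w hw with rfl | rfl
    exacts [Submodule.zero_mem _, absurd hw h1]

end Cfsg.Agent.Spor.MB
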