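import Mathlib
import Cfsg.Agent.Spor.MB.Res

/-!
# Centralisers of involutions and normalisers of subgroups of order 7 in `M24`
-/

namespace Cfsg.Agent.Spor.MB

open Cfsg MulAction Cfsg.Agent.Spor.Dod
open scoped Pointwise

theorem mem_normalizer_zpowers_iff {G : Type*} [Group G] [Finite G] {g y : G} :
    g ∈ Subgroup.normalizer (Subgroup.zpowers y : Set G) ↔ g * y * g⁻¹ ∈ Subgroup.zpowers y := by
  constructor
  · intro h; exact (Subgroup.mem_normalizer_iff.1 h y).1 (Subgroup.mem_zpowers y)
  · intro h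
    rw [Subgroup.mem_normalizer_iff_map_conj_eq, MonoidHom.map_zpowers]
    apply Subgroup.eq_of_le_of_card_ge (Subgroup.zpowers_le.2 h)
    rw [Nat.card_zpowers, Nat.card_zpowers]
    exact (MulEquiv.orderOf_eq (MulAut.conj g) y).ge

theorem conj_mem_zpowers_conj_iff {G : Type*} [Group G] (k x y : G) :
    k * x * k⁻¹ ∈ Subgroup.zpowers (k * y * k⁻¹) ↔ x ∈ Subgroup.zpowers y := by
  simp only [Subgroup.mem_zpowers_iff, conj_zpow, mul_left_inj, mul_right_inj]

/-- The centraliser in `M24` of a permutation. -/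
def CZ (x : PG) : Subgroup PG := M24 ⊓ Subgroup.centralizer {x}

theorem mem_CZ {x g : PG} : g ∈ CZ x ↔ g ∈ M24 ∧ g * x = x * g := by
  rw [CZ, Subgroup.mem_inf, Subgroup.mem_centralizer_singleton_iff]

theorem CZ_le (x : PG) : CZ x ≤ M24 := inf_le_left

theorem conj_mem_CZ_iff {k : PG} (hk : k ∈ M24) (x g : PG) :
    k * g * k⁻¹ ∈ CZ (k * x * k⁻¹) ↔ g ∈ CZ x := by
  rw [mem_CZ, mem_CZ, conj_mem_M24_iff hk, conj_mul, conj_mul, mul_left_inj, mul_right_inj]

theorem card_CZ_conj {k : PG} (hk : k ∈ M24) (x : PG) :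
    Nat.card (CZ (k * x * k⁻¹)) = Nat.card (CZ x) := card_eq_of_conj k (conj_mem_CZ_iff hk x)

/-- Commutation test. -/
def comm (a b : ℕ) : Bool := Nat.beq (mul a b) (mul b a)

theorem comm_iff {g x : PG} : comm (code g) (code x) = true ↔ g * x = x * g := by
  rw [comm, Nat.beq_eq, ← code_mul, ← code_mul, code_injective.eq_iff]

theorem gens_CZ {x : PG} {c : ℕ} (hc : code x = c) {gs : List ℕ}
    (h : allL (fun d => Bool.and (inM24 d) (comm d c)) gs = true) : Gens (CZ x) gs :=
  gens_of_check (fun d => comm d c) (fun _ hg hq => mem_CZ.2 ⟨hg, comm_iff.1 (hc ▸ hq)⟩) h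

theorem conj_eq_of_mem_CZ {x g : PG} (h : g ∈ CZ x) : g * x * g⁻¹ = x := by
  rw [(mem_CZ.1 h).2]; group

theorem smul_fixSet_of_mem_CZ {x g : PG} (h : g ∈ CZ x) : g • fixSet x = fixSet x := by
  rw [← fixSet_conj, conj_eq_of_mem_CZ h]

theorem smul_fixed_of_mem_CZ {X : Type*} [MulAction PG X] {x g : PG} (h : g ∈ CZ x) {a : X}
    (ha : x • a = a) : x • g • a = g • a := by
  rw [← mul_smul, ← (mem_CZ.1 h).2, mul_smul, ha]

/-- Upper bound for a centraliser contained in `H`, from conjugates under `H`. -/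
theorem mul_card_CZ_le {H : Subgroup PG} (hH : H ≤ M24) {gs : List ℕ} (hgs : Gens H gs) {x : PG}
    (hx : CZ x ≤ H) {c : ℕ} (hc : code x = c) (n fuel cert : ℕ)
    (h : distinct (fun x => x) n (walk cj gs c fuel cert) = true) :
    n * Nat.card (CZ x) ≤ Nat.card H := by
  have := mul_card_inf_le (cjM.le_ncard_orbit hH hgs (x := toCj x) hc.symm n fuel cert h)
  rw [stabilizer_toCj] at this
  exact le_trans (Nat.mul_le_mul_left _ (Subgroup.card_le_of_le
    (le_inf hx inf_le_right))) this

/-- The normaliser in `M24` of a cyclic group. -/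
def NZ (x : PG) : Subgroup PG := M24 ⊓ Subgroup.normalizer (Subgroup.zpowers x : Set PG)

theorem mem_NZ {x g : PG} : g ∈ NZ x ↔ g ∈ M24 ∧ g * x * g⁻¹ ∈ Subgroup.zpowers x := by
  rw [NZ, Subgroup.mem_inf, mem_normalizer_zpowers_iff]

theorem NZ_le (x : PG) : NZ x ≤ M24 := inf_le_left

theorem CZ_le_NZ (x : PG) : CZ x ≤ NZ x := fun g hg =>
  mem_NZ.2 ⟨hg.1, by rw [conj_eq_of_mem_CZ hg]; exact Subgroup.mem_zpowers x⟩

theorem conj_mem_NZ_iff {k : PG} (hk : k ∈ M24) (x g : PG) :
    k * g * k⁻¹ ∈ NZ (k * x * k⁻¹) ↔ g ∈ NZ x := by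
  rw [mem_NZ, mem_NZ, conj_mem_M24_iff hk, ← conj_mem_zpowers_conj_iff k (g * x * g⁻¹) x]
  congr! 2
  group

theorem card_NZ_conj {k : PG} (hk : k ∈ M24) (x : PG) :
    Nat.card (NZ (k * x * k⁻¹)) = Nat.card (NZ x) := card_eq_of_conj k (conj_mem_NZ_iff hk x)

theorem NZ_eq_of_zpowers_eq {x y : PG} (h : Subgroup.zpowers x = Subgroup.zpowers y) :
    NZ x = NZ y := by rw [NZ, NZ, h]

theorem CZ_eq_of_zpowers_eq {x y : PG} (h : Subgroup.zpowers x = Subgroup.zpowers y) :
    CZ x = CZ y := by
  rw [CZ, CZ, ← Subgroup.centralizer_closure, ← Subgroup.centralizer_closure {y},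
    ← Subgroup.zpowers_eq_closure, ← Subgroup.zpowers_eq_closure, h]

/-- Test that `d` conjugates `c` to one of its first `n` powers. -/
noncomputable def normz (c n d : ℕ) : Bool := force (cj d c) fun y => anyN (fun i => Nat.beq (pw c i) y) n

theorem gens_NZ {x : PG} {c : ℕ} (hc : code x = c) (n : ℕ) {gs : List ℕ}
    (h : allL (fun d => Bool.and (inM24 d) (normz c n d)) gs = true) : Gens (NZ x) gs := by
  refine gens_of_check (normz c n) (fun g hg hq => mem_NZ.2 ⟨hg, ?_⟩) h
  rw [normz, force_eq, anyN_iff] at hq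
  obtain ⟨i, -, hi⟩ := hq
  rw [Nat.beq_eq, ← hc, ← code_pow, ← code_conj, code_injective.eq_iff] at hi
  rw [← hi]
  exact Subgroup.npow_mem_zpowers x i

theorem smul_fixed_of_mem_NZ {X : Type*} [MulAction PG X] {x g : PG} (h : g ∈ NZ x) {a : X}
    (ha : x • a = a) : x • g • a = g • a := by
  have h1 := (mem_NZ.1 ((NZ x).inv_mem h)).2
  have h2 : (g⁻¹ * x * g⁻¹⁻¹) • a = a := (Subgroup.zpowers_le (H := stabilizer PG a)).2 ha h1
  rwa [inv_inv, mul_smul, mul_smul, inv_smul_eq_iff] at h2

theorem smul_fixSet_of_mem_NZ {x g : PG} (h : g ∈ NZ x) : g • fixSet x = fixSet x :=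
  smul_eq_of_forall_mem fun _ hp => mem_fixSet.2 (smul_fixed_of_mem_NZ h (mem_fixSet.1 hp))

theorem exists_generator {G : Type*} [Group G] {S : Subgroup G} {p : ℕ} (hp : p.Prime)
    (h : Nat.card S = p) : ∃ x : G, orderOf x = p ∧ Subgroup.zpowers x = S := by
  have : Fact p.Prime := ⟨hp⟩
  obtain ⟨x, hx⟩ := S.isCyclic_iff_exists_zpowers_eq_top.1 (isCyclic_of_prime_card h)
  exact ⟨x, by rw [← Nat.card_zpowers, hx, h], hx⟩

theorem zpowers_eq_of_mem {G : Type*} [Group G] [Finite G] {x y : G}
    (h : y ∈ Subgroup.zpowers x) (ho : orderOf y = orderOf x) :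
    Subgroup.zpowers y = Subgroup.zpowers x :=
  Subgroup.eq_of_le_of_card_ge (Subgroup.zpowers_le.2 h)
    (by rw [Nat.card_zpowers, Nat.card_zpowers, ho])

theorem orderOf_conj' {G : Type*} [Group G] (k x : G) : orderOf (k * x * k⁻¹) = orderOf x :=
  MulEquiv.orderOf_eq (MulAut.conj k) x

/-- Elements of prime order `p` of `H` when `p ^ 2` does not divide the order. -/
theorem exists_conj_mem_zpowers {H : Subgroup PG} {x g : PG} {p : ℕ} (hp : p.Prime) (hx : x ∈ H)
    (ho : orderOf x = p) (hk : (Nat.card H).factorization p = 1) (hg : g ∈ H)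
    (h : orderOf g = p) : ∃ k ∈ H, k * g * k⁻¹ ∈ Subgroup.zpowers x := by
  have : Fact p.Prime := ⟨hp⟩
  obtain ⟨k, hk, h'⟩ := exists_conj_le_of_card (H := H) (P := Subgroup.zpowers x)
    (Q := Subgroup.zpowers g) (p := p) (k := 1) (Subgroup.zpowers_le.2 hx)
    (by rw [Nat.card_zpowers, ho, pow_one]) hk
    (Subgroup.zpowers_le.2 hg) (isPGroup_zpowers (j := 1) (by rw [pow_one, ← h, pow_orderOf_eq_one]))
  exact ⟨k, hk, h' g (Subgroup.mem_zpowers g)⟩

theorem card_fixSet_of_sylow {H : Subgroup PG} {x g : PG} {p : ℕ} (hp : p.Prime) (hx : x ∈ H)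
    (ho : orderOf x = p) (hk : (Nat.card H).factorization p = 1) (hg : g ∈ H)
    (h : orderOf g = p) : (fixSet g).card = (fixSet x).card := by
  obtain ⟨k, -, hk⟩ := exists_conj_mem_zpowers hp hx ho hk hg h
  rw [← card_fixSet_conj k g, fixSet_of_mem_zpowers hp ho hk]
  rw [Ne, conj_eq_one_iff]
  rintro rfl
  rw [orderOf_one] at h
  exact hp.one_lt.ne h

/-! ### The centraliser of `zA` -/

theorem CZ_zA_le : CZ zA ≤ M24 ⊓ stabilizer PG O0 := fun g hg =>
  ⟨hg.1, by have := smul_fixSet_of_mem_CZ hg; rwa [fixSet_zA] at this⟩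

/-- Strong generators of the centraliser of `zA`. -/
def gCA : List ℕ := [970499966350631336865513127433832480, 966182099583441531322624363496310816, 968708902336673183175954409307867168, 979121071158219704299181131031480352, 591487565176706300727762318109295648, 97741535313754287034126069550668832, 103083455790929423985196190828431072, 589707904389555868849454019772472480, 735383550177659308763149739546315799]

/-- Base and tree certificates for the centraliser of `zA`. -/
def bCA : List (ℕ × ℕ × ℕ) := [(0, 7, 0x8875659), (3, 8, 0x70056578), (1, 7, 0x7005657), (2, 3, 0x565), (4, 15, 0x121312141213121)]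

theorem gens_gCA : Gens (CZ zA) gCA := gens_CZ code_zA (by decide +kernel)

theorem bsgs_CA : bsgs ptD bCA gCA 21504 = true := by decide +kernel

theorem card_CZ_zA : Nat.card (CZ zA) = 21504 := by
  refine le_antisymm ?_ (bsgs_le ptD gens_gCA _ _ bsgs_CA)
  have := mul_card_CZ_le inf_le_left gens_gO0 CZ_zA_le code_zA 15 16 0x1111112002111111
    (by decide +kernel)
  rw [card_stab_octad O0_mem] at this
  omega

theorem enumC_CA : EnumC (CZ zA) (mkTs ptD bCA gCA) :=
  bsgs_enumC ptD gens_gCA _ _ bsgs_CA card_CZ_zA.le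

/-! ### The centraliser of `zB` -/

/-- The octads fixed by `zB`. -/
def fixB : List ℕ := [12656663, 8536111, 4415544, 11010247, 6889680, 2769128, 9471495, 5350928, 1230376, 3704512, 8657159, 4536592, 416040, 2890176, 1351424]

theorem mask_mem_fixB {o : Finset GolayPt} (ho : o ∈ octads) (h : zB • o = o) : mask o ∈ fixB := by
  have := forall_octads (q := fun m => Bool.or (Bool.not (Nat.beq (act 89053301974695481301600181090966529 m) m))
    (memL fixB m)) (by decide +kernel) o ho
  rw [smul_eq_iff_act, code_zB] at h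
  rwa [h, Bool.not_true, Bool.false_or, memL_iff] at this

theorem CZ_zB_le : CZ zB ≤ M24 ⊓ stabilizer PG S0 := by
  intro g hg
  refine ⟨hg.1, ?_⟩
  have key : ∀ m, isCode m = true → pc m = 8 → m < 2 ^ 24 → act 89053301974695481301600181090966529 m = m →
      mask (g • unmask m) ∈ fixB := fun m h1 h2 h3 h4 =>
    mask_mem_fixB ((smul_mem_octads_iff hg.1).2 (unmask_mem_octads h1 h2))
      (smul_fixed_of_mem_CZ hg (by rw [smul_unmask_eq_iff h3, code_zB, h4]))
  have h1 := key 12656663 (by decide +kernel) (by decide +kernel) (by norm_num) (by decide +kernel)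
  have h2 := key 8536111 (by decide +kernel) (by decide +kernel) (by norm_num) (by decide +kernel)
  have h3 : allL (fun a => allL (fun b => Bool.or (Bool.not (Nat.beq (pc (Nat.land a b)) 4))
    (memL S0L (Nat.land a b))) fixB) fixB = true := by decide +kernel
  have h4 := allL_iff.1 (allL_iff.1 h3 _ h1) _ h2
  have e : unmask 12656663 ∩ unmask 8536111 = unmask 8388615 := by decide +kernel
  have e4 : (unmask 8388615).card = 4 := by decide +kernel
  rw [← mask_inter, smul_inter, e, ← card_eq_pc, Finset.card_smul_finset, e4, Nat.beq_refl,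
    Bool.not_true, Bool.false_or, memL_iff] at h4
  exact sextet_eq_of_mem (smul_mem_sextets hg.1 S0_mem) S0_mem
    (Finset.smul_mem_smul_finset (mem_fam.2 ⟨8388615, by simp [S0L], rfl⟩))
    (mem_fam.2 ⟨_, h4, unmask_mask _⟩)

/-- Strong generators of the centraliser of `zB`. -/
def gCB : List ℕ := [961365507626256404119956257276790816, 976448692869377735270425038196672544, 963721886883755259286232606933354528, 107258872799966064096656452877409312, 101554274143859037359887637995412512, 773064609029016453501235753069031784]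

/-- Base and tree certificates for the centraliser of `zB`. -/
def bCB : List (ℕ × ℕ × ℕ) := [(0, 32, 0x60000466000006461213121412131216), (3, 26, 0x45005000001213121412131215), (2, 1, 0x4), (4, 7, 0x1213121)]

theorem gens_gCB : Gens (CZ zB) gCB := gens_CZ code_zB (by decide +kernel)

theorem bsgs_CB : bsgs ptD bCB gCB 7680 = true := by decide +kernel

theorem card_CZ_zB : Nat.card (CZ zB) = 7680 := by
  refine le_antisymm ?_ (bsgs_le ptD gens_gCB _ _ bsgs_CB)
  have := mul_card_CZ_le inf_le_left gens_gS0 CZ_zB_le code_zB 18 19 0x1111120011111211111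
    (by decide +kernel)
  rw [card_stab_sextet S0_mem] at this
  omega

theorem enumC_CB : EnumC (CZ zB) (mkTs ptD bCB gCB) :=
  bsgs_enumC ptD gens_gCB _ _ bsgs_CB card_CZ_zB.le

/-! ### The normaliser of `x7` -/

/-- The trio fixed by `x7`. -/
abbrev T7 : Finset (Finset GolayPt) := fam [2854977, 5508118, 8414120]

theorem T7_mem : T7 ∈ trios := fam_mem_trios (by decide +kernel)

theorem x7_smul_T7 : x7 • T7 = T7 := smul_fam_of_stabsFam (by rw [code_x7]; decide +kernel)

theorem NZ_x7_le : NZ x7 ≤ M24 ⊓ stabilizer PG T7 := by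
  intro g hg
  have h1 : {S | S ∈ trios ∧ x7 • S = S}.ncard = 1 := by
    rw [ncard_fixed_trios x7_mem, code_x7]; decide +kernel
  obtain ⟨T, hT⟩ := Set.ncard_eq_one.1 h1
  have a1 : T7 ∈ ({T} : Set _) := by rw [← hT]; exact ⟨T7_mem, x7_smul_T7⟩
  have a2 : g • T7 ∈ ({T} : Set _) := by
    rw [← hT]; exact ⟨smul_mem_trios hg.1 T7_mem, smul_fixed_of_mem_NZ hg x7_smul_T7⟩
  exact ⟨hg.1, a2.trans a1.symm⟩

/-- Strong generators of the normaliser of `x7`. -/
def gN7 : List ℕ := [969910755176304412474811566361348128, 970324011562864714652357556057886752, 51402648165853364499955257763247840, 980235791634507545651414524292612097]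

/-- Base and tree certificates for the normaliser of `x7`. -/
def bN7 : List (ℕ × ℕ × ℕ) := [(0, 2, 0x34), (1, 1, 0x3), (2, 6, 0x112112), (3, 2, 0x11)]

theorem gens_gN7 : Gens (NZ x7) gN7 := gens_NZ code_x7 7 (by decide +kernel)

theorem bsgs_N7 : bsgs ptD bN7 gN7 126 = true := by decide +kernel

theorem card_NZ_x7 : Nat.card (NZ x7) = 126 := by
  refine le_antisymm ?_ (bsgs_le ptD gens_gN7 _ _ bsgs_N7)
  have h1 := mul_card_inf_le (setM.le_ncard_orbit (H := M24 ⊓ stabilizer PG T7) inf_le_left
    (gs := [629229367766172969855313587560523815, 715695329603279423843611287353500842]) (gens_stabFam (by decide +kernel)) (setM_R (m := 8388611) (by norm_num))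
    512 687 0x111111200000000000000000000000000000000000000000000000000000000000000000000000001111112000000000011111111111112000000000001111112111111111111120000000000011111120000000000000011111120000000000000000000000111111111111120111111111111120000001111111111111211111111111112000111111200111111200011111111111112001111111111111200111111111111120000111111111111120111111111111121111111111111200011111111111112011111111111112011111111111112111111111111121111111111111200111111111111121111111111111211111111111112111111111111120111111111111121111111111111200111111111111121111111111111211111120111111111111121111111111111211111111111112111111111111121111111111111221111112111111111111121111111111111 (by decide +kernel))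
  have h2 : Nat.card (NZ x7) ≤ Nat.card ↥(M24 ⊓ stabilizer PG T7 ⊓ stabilizer PG (unmask 8388611)) :=
    Subgroup.card_le_of_le (le_inf NZ_x7_le fun g hg => by
      have := smul_fixSet_of_mem_NZ hg
      rwa [fixSet_x7] at this)
  rw [card_stab_trio T7_mem] at h1
  exact h2.trans (Nat.le_of_mul_le_mul_left (c := 512) h1 (by norm_num))

theorem enumC_N7 : EnumC (NZ x7) (mkTs ptD bN7 gN7) :=
  bsgs_enumC ptD gens_gN7 _ _ bsgs_N7 card_NZ_x7.le

theorem card_CZ_x7 : Nat.card (CZ x7) = 42 := by
  rw [enumC_N7.card_sub (fun d => comm d 982007568098642619616056023997229088) fun g => by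
    rw [← code_x7, comm_iff]
    exact ⟨fun h => ⟨CZ_le_NZ _ h, (mem_CZ.1 h).2⟩, fun h => mem_CZ.2 ⟨h.1.1, h.2⟩⟩]
  decide +kernel

end Cfsg.Agent.Spor.MB
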