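import Mathlib

/-!
# Scott's inequality and the genus inequality of Ree for permutation groups
-/

namespace Cfsg.Agent.Spor.Scott

open Module

/-- Scott's inequality for three endomorphisms with product one. -/
theorem scott {k V : Type*} [Field k] [AddCommGroup V] [Module k V] [FiniteDimensional k V]
    (X Y Z : Module.End k V) (h : X * Y * Z = 1) :
    finrank k ↥(LinearMap.range (1 - X) ⊔ LinearMap.range (1 - Y)) + finrank k V ≤
      finrank k (LinearMap.range (1 - X)) + finrank k (LinearMap.range (1 - Y)) +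
        finrank k (LinearMap.range (1 - Z)) +
        finrank k ↥(LinearMap.ker (1 - X) ⊓ LinearMap.ker (1 - Y)) := by
  let β := (1 - X).rangeRestrict.prod ((1 - Y).rangeRestrict.prod (1 - Z).rangeRestrict)
  let δ := (LinearMap.range (1 - X)).subtype.coprod
    ((X ∘ₗ (LinearMap.range (1 - Y)).subtype).coprod
      ((X * Y) ∘ₗ (LinearMap.range (1 - Z)).subtype))
  have h1 : LinearMap.range β ≤ LinearMap.ker δ := by
    rintro _ ⟨v, rfl⟩
    have : X (Y (Z v)) = v := LinearMap.congr_fun h v
    change (v - X v) + (X (v - Y v) + X (Y (v - Z v))) = 0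
    rw [map_sub, map_sub, map_sub, this]
    abel
  have h2 : LinearMap.ker β ≤ LinearMap.ker (1 - X) ⊓ LinearMap.ker (1 - Y) := fun v hv =>
    have hv' : β v = 0 := hv
    ⟨(congrArg (fun c => c.1.1) hv' :), (congrArg (fun c => c.2.1.1) hv' :)⟩
  have h3 : LinearMap.range (1 - X) ⊔ LinearMap.range (1 - Y) ≤ LinearMap.range δ := by
    refine sup_le (fun a ha => ⟨(⟨a, ha⟩, 0, 0), by simp [δ]⟩) fun b hb =>
      ⟨(⟨b - X b, b, rfl⟩, ⟨b, hb⟩, 0), by simp [δ]⟩
  have a1 := Submodule.finrank_mono h1
  have a2 := Submodule.finrank_mono h2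
  have a3 := Submodule.finrank_mono h3
  have a4 := β.finrank_range_add_finrank_ker
  have a5 := δ.finrank_range_add_finrank_ker
  rw [Module.finrank_prod, Module.finrank_prod] at a5
  omega

variable {α : Type*} [Fintype α] [DecidableEq α]

/-- The permutation representation on rational functions. -/
def ρ : Equiv.Perm α →* Module.End ℚ (α → ℚ) where
  toFun g := LinearMap.funLeft ℚ ℚ g.symm
  map_one' := rfl
  map_mul' _ _ := rfl

/-- The index of a permutation: the rank of `1 - g` on the permutation module. -/
noncomputable def rk (g : Equiv.Perm α) : ℕ := finrank ℚ (LinearMap.range (1 - ρ g))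

omit [Fintype α] in
theorem ρ_single (g : Equiv.Perm α) (a : α) : ρ g (Pi.single a 1) = Pi.single (g a) 1 := by
  ext b
  change (Pi.single a 1 : α → ℚ) (g.symm b) = _
  simp only [Pi.single_apply, Equiv.symm_apply_eq]

/-- The inequality of Ree: `S` meets every orbit of the group generated by `x` and `y`. -/
theorem ree {x y z : Equiv.Perm α} (h : x * y * z = 1) (S : Finset α)
    (hS : ∀ q, ∃ g ∈ Subgroup.closure {x, y}, ∃ s ∈ S, g s = q) :
    2 * Fintype.card α ≤ rk x + rk y + rk z + 2 * S.card := by
  have h1 := scott (ρ x) (ρ y) (ρ z) (by rw [← map_mul, ← map_mul, h, map_one])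
  rw [Module.finrank_fintype_fun_eq_card] at h1
  set W := LinearMap.range (1 - ρ x) ⊔ LinearMap.range (1 - ρ y)
  have h2 : ∀ g ∈ Subgroup.closure {x, y}, ∀ v, v - ρ g v ∈ W := by
    intro g hg
    induction hg using Subgroup.closure_induction with
    | mem g hg =>
      intro v
      rcases hg with rfl | rfl
      exacts [Submodule.mem_sup_left ⟨v, rfl⟩, Submodule.mem_sup_right ⟨v, rfl⟩]
    | one => intro v; simp
    | mul a b _ _ ha hb =>
      intro v
      have := W.add_mem (hb v) (ha (ρ b v))
      rwa [sub_add_sub_cancel, ← Module.End.mul_apply, ← map_mul] at this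
    | inv a _ ha =>
      intro v
      have := W.neg_mem (ha (ρ a⁻¹ v))
      rwa [neg_sub, ← Module.End.mul_apply, ← map_mul, mul_inv_cancel, map_one] at this
  have h3 : W ⊔ Submodule.span ℚ (S.image fun s => (Pi.single s 1 : α → ℚ)) = ⊤ := by
    rw [eq_top_iff, ← (Pi.basisFun ℚ α).span_eq, Submodule.span_le]
    rintro _ ⟨q, rfl⟩
    obtain ⟨g, hg, s, hs, rfl⟩ := hS q
    rw [Pi.basisFun_apply, ← ρ_single, ← sub_sub_cancel (Pi.single s 1) (ρ g (Pi.single s 1))]
    exact Submodule.sub_mem _ (Submodule.mem_sup_right (Submodule.subset_span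
      (Finset.mem_coe.2 (Finset.mem_image_of_mem _ hs)))) (Submodule.mem_sup_left (h2 g hg _))
  have h4 := Submodule.finrank_add_le_finrank_add_finrank W
    (Submodule.span ℚ (S.image fun s => (Pi.single s 1 : α → ℚ)))
  rw [h3, finrank_top, Module.finrank_fintype_fun_eq_card] at h4
  have h5 := (finrank_span_finset_le_card (R := ℚ)
    (S.image fun s => (Pi.single s 1 : α → ℚ))).trans Finset.card_image_le
  have h6 : finrank ℚ ↥(LinearMap.ker (1 - ρ x) ⊓ LinearMap.ker (1 - ρ y)) ≤ S.card := by
    rw [← Fintype.card_coe S, ← Module.finrank_fintype_fun_eq_card (R := ℚ)]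
    refine LinearMap.finrank_le_finrank_of_injective
      (f := LinearMap.funLeft ℚ ℚ (Subtype.val : S → α) ∘ₗ Submodule.subtype _)
      ((injective_iff_map_eq_zero _).2 fun v hv => Subtype.ext (funext fun q => ?_))
    have key : ∀ g ∈ Subgroup.closure {x, y}, ρ g v.1 = v.1 := by
      intro g hg
      induction hg using Subgroup.closure_induction with
      | mem g hg =>
        rcases hg with rfl | rfl
        exacts [(sub_eq_zero.1 v.2.1).symm, (sub_eq_zero.1 v.2.2).symm]
      | one => simp
      | mul a b _ _ ha hb => rw [map_mul, Module.End.mul_apply, hb, ha]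
      | inv a _ ha =>
        conv_lhs => rw [← ha]
        rw [← Module.End.mul_apply, ← map_mul, inv_mul_cancel, map_one]; rfl
    obtain ⟨g, hg, s, hs, rfl⟩ := hS q
    rw [← key g hg]
    change v.1 (g.symm (g s)) = 0
    rw [Equiv.symm_apply_apply]
    exact congrFun hv ⟨s, hs⟩
  unfold Set.finrank at h5
  unfold rk
  omega

/-- The index of a permutation of prime order. -/
theorem rk_le {x : Equiv.Perm α} {p f : ℕ} (ho : orderOf x = p)
    (hf : ∀ y ∈ Subgroup.zpowers x, y ≠ 1 → f ≤ (Finset.univ.filter fun a => y a = a).card) :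
    p * rk x + Fintype.card α + (p - 1) * f ≤ p * Fintype.card α := by
  classical
  let Q := MulAction.orbitRel.Quotient (Subgroup.zpowers x) α
  have h1 := MulAction.sum_card_fixedBy_eq_card_orbits_mul_card_group (Subgroup.zpowers x) α
  rw [← Finset.add_sum_erase _ _ (Finset.mem_univ 1), Fintype.card_zpowers, ho] at h1
  have h2 : Fintype.card (MulAction.fixedBy α (1 : Subgroup.zpowers x)) = Fintype.card α := by
    simp
  have h3 : (p - 1) * f ≤ ∑ y ∈ Finset.univ.erase (1 : Subgroup.zpowers x),
      Fintype.card (MulAction.fixedBy α y) := by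
    have := Finset.card_nsmul_le_sum (Finset.univ.erase (1 : Subgroup.zpowers x))
      (fun y => Fintype.card (MulAction.fixedBy α y)) f fun y hy => by
        rw [Fintype.card_subtype]
        exact hf y y.2 fun e => (Finset.mem_erase.1 hy).1 (Subtype.ext e)
    rwa [Finset.card_erase_of_mem (Finset.mem_univ _), Finset.card_univ, Fintype.card_zpowers, ho,
      smul_eq_mul] at this
  have h4 : Fintype.card Q ≤ finrank ℚ (LinearMap.ker (1 - ρ x)) := by
    rw [← Module.finrank_fintype_fun_eq_card (R := ℚ)]
    refine LinearMap.finrank_le_finrank_of_injective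
      (f := (LinearMap.funLeft ℚ ℚ (Quotient.mk'' : α → Q)).codRestrict _ fun v => ?_) ?_
    · rw [LinearMap.mem_ker, LinearMap.sub_apply, sub_eq_zero]
      ext a
      refine congrArg v (Quotient.sound' ⟨⟨x, Subgroup.mem_zpowers x⟩, ?_⟩)
      exact x.apply_symm_apply a
    · intro v w e
      exact LinearMap.funLeft_injective_of_surjective ℚ ℚ _ Quotient.mk''_surjective
        (congrArg Subtype.val e)
  have h5 := (1 - ρ x).finrank_range_add_finrank_ker
  rw [Module.finrank_fintype_fun_eq_card] at h5
  have h6 : p * (rk x + Fintype.card Q) ≤ p * Fintype.card α :=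
    Nat.mul_le_mul_left _ (by unfold rk; omega)
  rw [mul_add, mul_comm p (Fintype.card Q)] at h6
  have h7 : Fintype.card Q * p = _ := h1.symm
  omega

end Cfsg.Agent.Spor.Scott
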