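import Mathlib
import Cfsg.Agent.Spor.MB.PtOrb

/-!
# Small subsets: subsets of an octad, six-point sets, duads and triads
-/

namespace Cfsg.Agent.Spor.MB

open Cfsg MulAction
open scoped Pointwise

theorem ncard_subset_card (o : Finset GolayPt) (k : ℕ) :
    {s : Finset GolayPt | s ⊆ o ∧ s.card = k}.ncard = Nat.choose o.card k := by
  have : {s : Finset GolayPt | s ⊆ o ∧ s.card = k} = ↑(Finset.powersetCard k o) := by
    ext s; simp [Finset.mem_powersetCard]
  rw [this, Set.ncard_coe_finset, Finset.card_powersetCard]

theorem ncard_disjoint_card (o : Finset GolayPt) (k : ℕ) :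
    {s : Finset GolayPt | s.card = k ∧ Disjoint o s}.ncard = Nat.choose (24 - o.card) k := by
  rw [← card_compl, ← ncard_subset_card]
  congr 1
  ext s
  simp only [Set.mem_ofPred_eq, ← Finset.subset_compl_iff_disjoint_left]
  exact and_comm

theorem smul_subset_iff_of_fix {g : PG} {s : Finset GolayPt} (h : g • s = s) {t : Finset GolayPt} :
    g • t ⊆ s ↔ t ⊆ s := by
  conv_lhs => rw [← h]
  exact smul_subset_smul_iff g

theorem subset_smul_iff_of_fix {g : PG} {s : Finset GolayPt} (h : g • s = s) {t : Finset GolayPt} :
    s ⊆ g • t ↔ s ⊆ t := by
  conv_lhs => rw [← h]
  exact smul_subset_smul_iff g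

theorem disjoint_smul_iff_of_fix {g : PG} {s : Finset GolayPt} (h : g • s = s)
    {t : Finset GolayPt} : Disjoint s (g • t) ↔ Disjoint s t := by
  conv_lhs => rw [← h]
  exact disjoint_smul_iff g

theorem exists_smul_sub_O0 {s : Finset GolayPt} (hs : s ⊆ O0) {m : ℕ} (hm : m < 2 ^ 24)
    (hsub : unmask m ⊆ O0) (hc : s.card = pc m) (n fuel cert : ℕ)
    (h : distinct setM.k n (walk setM.a gO0 m fuel cert) = true) (hn : Nat.choose 8 (pc m) ≤ n) :
    ∃ g ∈ M24 ⊓ stabilizer PG O0, g • unmask m = s :=
  setM.trans inf_le_left gens_gO0 (setM_R hm) n fuel cert h
    (T := {s : Finset GolayPt | s ⊆ O0 ∧ s.card = pc m}) (Set.toFinite _)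
    (fun g hg => ⟨(smul_subset_iff_of_fix hg.2).2 hsub, by
      rw [Finset.card_smul_finset, card_unmask]⟩)
    (by rw [ncard_subset_card, O0_mem.2]; exact hn) s ⟨hs, hc⟩

theorem exists_smul_of_O0 {o s s0 : Finset GolayPt} (ho : o ∈ octads) (hs : s ⊆ o) {k : ℕ}
    (hc : s.card = k) (h : ∀ s ⊆ O0, s.card = k → ∃ g ∈ M24 ⊓ stabilizer PG O0, g • s0 = s) :
    ∃ g ∈ M24, g • O0 = o ∧ g • s0 = s := by
  obtain ⟨g, hg, rfl⟩ := exists_smul_O0 ho
  obtain ⟨s, rfl⟩ := exists_eq_smul g s
  rw [smul_subset_smul_iff] at hs
  rw [Finset.card_smul_finset] at hc
  obtain ⟨h, hh, rfl⟩ := h s hs hc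
  exact ⟨g * h, M24.mul_mem hg hh.1, by rw [mul_smul, mem_stabilizer_iff.1 hh.2], mul_smul _ _ _⟩

theorem exists_smul_sub_two {o s : Finset GolayPt} (ho : o ∈ octads) (hs : s ⊆ o)
    (hc : s.card = 2) : ∃ g ∈ M24, g • O0 = o ∧ g • unmask 8388609 = s :=
  exists_smul_of_O0 ho hs hc fun s hs hc => exists_smul_sub_O0 hs (by norm_num)
    (by decide +kernel) (by rw [hc]; decide +kernel) 28 27 0x111111211111121111112111111 (by decide +kernel)
    (by decide +kernel)

theorem exists_smul_sub_three {o s : Finset GolayPt} (ho : o ∈ octads) (hs : s ⊆ o)
    (hc : s.card = 3) : ∃ g ∈ M24, g • O0 = o ∧ g • unmask 8388611 = s :=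
  exists_smul_of_O0 ho hs hc fun s hs hc => exists_smul_sub_O0 hs (by norm_num)
    (by decide +kernel) (by rw [hc]; decide +kernel) 56 67 0x1111112000000000011111121111112001111112111111211111121111112111111 (by decide +kernel)
    (by decide +kernel)

theorem exists_smul_sub_four {o s : Finset GolayPt} (ho : o ∈ octads) (hs : s ⊆ o)
    (hc : s.card = 4) : ∃ g ∈ M24, g • O0 = o ∧ g • unmask 8388615 = s :=
  exists_smul_of_O0 ho hs hc fun s hs hc => exists_smul_sub_O0 hs (by norm_num)
    (by decide +kernel) (by rw [hc]; decide +kernel) 70 88 0x1111112000000000111111200000011111120011111121111112111111211111120011111121111112111111 (by decide +kernel)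
    (by decide +kernel)

theorem exists_smul_sub_six {o s : Finset GolayPt} (ho : o ∈ octads) (hs : s ⊆ o)
    (hc : s.card = 6) : ∃ g ∈ M24, g • O0 = o ∧ g • unmask 8388655 = s :=
  exists_smul_of_O0 ho hs hc fun s hs hc => exists_smul_sub_O0 hs (by norm_num)
    (by decide +kernel) (by rw [hc]; decide +kernel) 28 36 0x111111200000111111200001111112111111 (by decide +kernel)
    (by decide +kernel)

/-- A set lies in an octad. -/
def InOctad (s : Finset GolayPt) : Prop := ∃ o ∈ octads, s ⊆ o

theorem inOctad_smul_iff {g : PG} (hg : g ∈ M24) {s : Finset GolayPt} :
    InOctad (g • s) ↔ InOctad s := by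
  constructor
  · rintro ⟨o, ho, h⟩
    obtain ⟨o, rfl⟩ := exists_eq_smul g o
    exact ⟨o, (smul_mem_octads_iff hg).1 ho, (smul_subset_smul_iff g).1 h⟩
  · rintro ⟨o, ho, h⟩
    exact ⟨g • o, (smul_mem_octads_iff hg).2 ho, (smul_subset_smul_iff g).2 h⟩

/-- Test for lying in an octad. -/
noncomputable def inOct (m : ℕ) : Bool := anyL (fun o => Nat.beq (Nat.land m o) m) octL

theorem inOctad_iff {s : Finset GolayPt} : InOctad s ↔ inOct (mask s) = true := by
  rw [inOct, anyL_iff]
  constructor
  · rintro ⟨o, ho, h⟩
    exact ⟨mask o, mem_octads_iff_octL.1 ho, by rw [Nat.beq_eq]; exact subset_iff_mask.1 h⟩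
  · rintro ⟨m, hm, h⟩
    refine ⟨unmask m, unmask_mem_octads_of_mem hm, subset_iff_mask.2 ?_⟩
    rw [mask_unmask (octL_spec m hm).1]; exact Nat.eq_of_beq_eq_true h

open Classical in
/-- Indicator of lying in an octad. -/
noncomputable def octInd (s : Finset GolayPt) : ℕ := if InOctad s then 1 else 0

theorem octInd_smul {g : PG} (hg : g ∈ M24) (s : Finset GolayPt) : octInd (g • s) = octInd s := by
  unfold octInd
  rw [propext (inOctad_smul_iff (s := s) hg)]

theorem octInd_unmask {m : ℕ} (hm : m < 2 ^ 24) : octInd (unmask m) = (inOct m).toNat := by
  rw [octInd, inOctad_iff, mask_unmask hm]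
  cases inOct m <;> simp

theorem octInd_eq_one {s : Finset GolayPt} : octInd s = 1 ↔ InOctad s := by
  unfold octInd; split_ifs with h <;> simp [h]

theorem octInd_eq_zero {s : Finset GolayPt} : octInd s = 0 ↔ ¬ InOctad s := by
  unfold octInd; split_ifs with h <;> simp [h]

theorem octInd_eq_iff {s t : Finset GolayPt} : octInd s = octInd t ↔ (InOctad s ↔ InOctad t) := by
  unfold octInd; split_ifs with h h' h' <;> simp [h, h']

theorem octInd_le (s : Finset GolayPt) : octInd s ≤ 1 := by
  unfold octInd; split_ifs <;> simp

theorem union_smul_of_fix {g : PG} {s : Finset GolayPt} (h : g • s = s) (t : Finset GolayPt) :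
    s ∪ g • t = g • (s ∪ t) := by
  conv_lhs => rw [← h]
  exact smul_union g s t

/-- Generators of the stabiliser of the standard triad `{∞, 0, 1}`. -/
def gTri : List ℕ := [70204093651205098465429121680295959, 23908775735805376386023178311798839]

theorem gens_gTri : Gens (M24 ⊓ stabilizer PG (unmask 8388611)) gTri :=
  gens_stabSet (by decide +kernel)

/-- Generators of the stabiliser of the standard duad `{∞, 0}`. -/
def gDu : List ℕ := [971590384175996365402382213659694656, 5940904243705204185758327065651383]

theorem gens_gDu : Gens (M24 ⊓ stabilizer PG (unmask 8388609)) gDu :=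
  gens_stabSet (by decide +kernel)

theorem triad_orbits :
    (∀ i, {y : Finset GolayPt | y ∈ {y : Finset GolayPt | y.card = 3} ∧ 2 * (unmask 8388611 ∩ y).card + octInd (unmask 8388611 ∪ y) = ![7, 5, 1, 3, 0] i}.ncard = ![1, 63, 210, 630, 1120] i) ∧
    (∀ y ∈ {y : Finset GolayPt | y.card = 3}, ∀ y' ∈ {y : Finset GolayPt | y.card = 3}, 2 * (unmask 8388611 ∩ y).card + octInd (unmask 8388611 ∪ y) = 2 * (unmask 8388611 ∩ y').card + octInd (unmask 8388611 ∪ y') →
      ∃ h : ↥(M24 ⊓ stabilizer PG (unmask 8388611)), h • y = y') ∧
    ∀ y ∈ {y : Finset GolayPt | y.card = 3}, ∃ i, 2 * (unmask 8388611 ∩ y).card + octInd (unmask 8388611 ∪ y) = ![7, 5, 1, 3, 0] i := by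
  refine orbit_partition' (H := ↥(M24 ⊓ stabilizer PG (unmask 8388611))) (T := {y : Finset GolayPt | y.card = 3}) (Set.toFinite _)
    (fun h y hy => (Finset.card_smul_finset (h : PG) y).trans hy) (f := fun y => 2 * (unmask 8388611 ∩ y).card + octInd (unmask 8388611 ∪ y))
    (fun h y _ => by
      change 2 * (_ ∩ (h : PG) • y).card + octInd (_ ∪ (h : PG) • y) = _
      rw [card_inter_of_fix h.2.2, union_smul_of_fix h.2.2, octInd_smul h.2.1])
    ![unmask 8388611, unmask 7, unmask 44, unmask 13, unmask 28] ?_ _
    (by
      simp only [Fin.forall_fin_succ]
      refine ⟨?_, ?_, ?_, ?_, ?_, finZeroElim⟩ <;>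
      · simp only [Matrix.cons_val_zero, Matrix.cons_val_succ]
        rw [← unmask_lor, octInd_unmask (by decide +kernel)]
        decide +kernel) (by decide) _ ?_ (by rw [ncard_card_eq]; decide +kernel)
  · simp only [Fin.forall_fin_succ]
    refine ⟨?_, ?_, ?_, ?_, ?_, finZeroElim⟩
    · exact (card_unmask _).trans (by decide +kernel)
    · exact (card_unmask _).trans (by decide +kernel)
    · exact (card_unmask _).trans (by decide +kernel)
    · exact (card_unmask _).trans (by decide +kernel)
    · exact (card_unmask _).trans (by decide +kernel)
  · simp only [Fin.forall_fin_succ]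
    exact ⟨setM.le_ncard_orbit (inf_le_left) gens_gTri (setM_R (by norm_num))
        1 0 0x0 (by decide +kernel),
      setM.le_ncard_orbit (inf_le_left) gens_gTri (setM_R (by norm_num))
        63 105 0x112000000000000000112011200001120000000000000000000001121111120111112011111211111211111211111211111211111 (by decide +kernel),
      setM.le_ncard_orbit (inf_le_left) gens_gTri (setM_R (by norm_num))
        210 408 0x200000000000000000000000000000000000000000000000000000000000001200000000000000000000000000000000000000011200000000000120000000000011111200000000012000000011111200000000000000111112001111120000111112000000001111120000000011111200011111212111112000001111120121122111112000011111211111200011111220111112111112112111112111112000011111211111211211111211111200112111112011111211111201111121111121111121211111211111 (by decide +kernel),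
      setM.le_ncard_orbit (inf_le_left) gens_gTri (setM_R (by norm_num))
        630 1124 0x11200000000000000000000000000000000000000000000000000000000000000000000000000000000000000000000000000000000000000000000000000000000000000000000000000000000000000000000000000000000000000000000000000000000000000000000000000000000000011111200000000000000000000000000000000000000000000000000000000000000000000000000000000000111112000000000000000000000000000000000112000000000000011111200011111200000000000000000000000011111200000000000000001111121120000000112011111200001121111120111112111112111112001111120000011111200111112000111112112111112001111120000000000000001111120000000112011200111112000111112111112011111211111200001111121111120001111120111112111112112111112111112011211111200111112011111201111120001111121111121111121121111120111112112111112001111121111121111120111112011111211111211111201111121111121111120001111120111112111112000111112111112111112111112111112011111211111201111120112111112111112111112111112011111211111211111211211111201111121111121111121111121111120111112111112111112111112111112011111211111211211111211111201121111121111121121111120111112111112111112111112111112011111211111211211111211111211111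 (by decide +kernel),
      setM.le_ncard_orbit (inf_le_left) gens_gTri (setM_R (by norm_num))
        1120 1995 0x1111120000000000000000000000000000000000000000000000000000000000000000000000000000000000000000000000000000000000000000000000000000000000000000000000000002000000000000000000000000000000000000000000000000000000000000000000000000000000000000000000000001111120000000000000000000000000000000000000001111120000000000000000000000000000000000000000000112000000000000000000000000000000000000000000000000000000000000000000001111120000000000000000000000000000000000000000000000000000000000011111200000000000000000000000000000000000000000000000000000000000000000000000000000000000000000000000000000000011111200111112000000000000000111112000200000000000000000000000000000000000000000000011111200000000111112000000001200000000000000111112011111211111201121111120000000111112000000011111200000012000000000000000001111120011111200000000000111112000000001111120000011111201111120001111121111121111120000000011111200000111112001111120000000000011111200000000011200112111112000111112000111112111112000011111200000111112111112000111112011111211111201120111112000000001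11112001111120000011111201111120001111120000111112112001111120000000111112111112011111211111211111200111112011111211111201111121111120111112111112000011111211111211111201111121111120111112111112001111120111112111112001111120111112011111200111112111112111112111112111112011211111200011111201111121111121111121111121111120111112011111201111121111121111121111120111112111112000111112111112112111112011111211111201111120111112011111211111211111211111211111201111121111121121111120011111201111121111120111112111112111112111112111112000011111201111120111112111112111112001121111121111121111121111120001111121111121111121211111201111120111112011111211111211111201111121111121111121111120111112111112111112111112111112011111211111211111211111211111201111121111121111120111112111112111112111112111112011111211111211111211111211111201111121111121111121111121111120121111121111121111121111120111112111112111112111112111112011111211111211111211111211111211111 (by decide +kernel),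
      finZeroElim⟩

theorem duad_orbits :
    (∀ i, {y : Finset GolayPt | y ∈ {y : Finset GolayPt | y.card = 2} ∧ (unmask 8388609 ∩ y).card = ![2, 1, 0] i}.ncard = ![1, 44, 231] i) ∧
    (∀ y ∈ {y : Finset GolayPt | y.card = 2}, ∀ y' ∈ {y : Finset GolayPt | y.card = 2}, (unmask 8388609 ∩ y).card = (unmask 8388609 ∩ y').card →
      ∃ h : ↥(M24 ⊓ stabilizer PG (unmask 8388609)), h • y = y') ∧
    ∀ y ∈ {y : Finset GolayPt | y.card = 2}, ∃ i, (unmask 8388609 ∩ y).card = ![2, 1, 0] i := by
  refine orbit_partition' (H := ↥(M24 ⊓ stabilizer PG (unmask 8388609))) (T := {y : Finset GolayPt | y.card = 2}) (Set.toFinite _)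
    (fun h y hy => (Finset.card_smul_finset (h : PG) y).trans hy) (f := fun y => (unmask 8388609 ∩ y).card)
    (fun h y _ => card_inter_of_fix h.2.2 y)
    ![unmask 8388609, unmask 3, unmask 6] ?_ _
    (by decide +kernel) (by decide) _ ?_ (by rw [ncard_card_eq]; decide +kernel)
  · simp only [Fin.forall_fin_succ]
    refine ⟨?_, ?_, ?_, finZeroElim⟩
    · exact (card_unmask _).trans (by decide +kernel)
    · exact (card_unmask _).trans (by decide +kernel)
    · exact (card_unmask _).trans (by decide +kernel)
  · simp only [Fin.forall_fin_succ]
    exact ⟨setM.le_ncard_orbit (inf_le_left) gens_gDu (setM_R (by norm_num))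
        1 0 0x0 (by decide +kernel),
      setM.le_ncard_orbit (inf_le_left) gens_gDu (setM_R (by norm_num))
        44 68 0x20000000000000011112011112001111220002002000111121111211112111121111 (by decide +kernel),
      setM.le_ncard_orbit (inf_le_left) gens_gDu (setM_R (by norm_num))
        231 368 0x11112000000000000000000000000000000000000000000000000000002000011112000000000000000000000111120111120000000000000000000000111120000111120000111120111121111200111121111211112000000001111201111211112011112111120111121111211112000111121111201111201111201111200011112011112011112011112111120011112111120111121111211112111121111211112111121111211112111121111211112111121111 (by decide +kernel),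
      finZeroElim⟩

end Cfsg.Agent.Spor.MB
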